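import Cfsg.Agent.Invol.Dihedral
import Mathlib.GroupTheory.Subgroup.Centralizer
import Mathlib.GroupTheory.Sylow
import Mathlib.GroupTheory.Index

/-!
Counting pairs of involutions and real elements.
-/

namespace CfsgLib.Invol

variable {G : Type*} [Group G]

theorem card_pairs_eq (x : G) (hx : x ≠ 1) (hx2 : x ^ 2 ≠ 1) :
    Nat.card {p : G × G // orderOf p.1 = 2 ∧ orderOf p.2 = 2 ∧ p.1 * p.2 = x} =
      Nat.card {t : G // orderOf t = 2 ∧ t * x * t⁻¹ = x⁻¹} := by
  refine Nat.card_congr
    { toFun := fun p => ⟨p.1.1, p.2.1, ?_⟩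
      invFun := fun t => ⟨(t.1, t.1 * x), t.2.1, ?_, ?_⟩
      left_inv := fun p => ?_
      right_inv := fun t => rfl }
  · obtain ⟨⟨s, t⟩, hs, ht, rfl⟩ := p
    simp only
    rw [mul_inv_rev, inv_eq_of_orderOf hs, inv_eq_of_orderOf ht, ← mul_assoc s s t,
      mul_self_of_orderOf hs, one_mul]
  · have h := mul_self_of_orderOf t.2.1
    refine orderOf_eq_two ?_ ?_
    · calc t.1 * x * (t.1 * x) = t.1 * x * t.1⁻¹ * x := by
            rw [inv_eq_of_orderOf t.2.1]; group
        _ = 1 := by rw [t.2.2, inv_mul_cancel]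
    · intro he
      apply hx2
      have : x = t.1⁻¹ := eq_inv_of_mul_eq_one_right he
      rw [this, pow_two, inv_eq_of_orderOf t.2.1, h]
  · simp only [← mul_assoc, mul_self_of_orderOf t.2.1, one_mul]
  · obtain ⟨⟨s, t⟩, hs, ht, rfl⟩ := p
    ext <;> simp [← mul_assoc, mul_self_of_orderOf hs]

theorem card_pairs_le_real [Finite G] (x : G) :
    Nat.card {p : G × G // orderOf p.1 = 2 ∧ orderOf p.2 = 2 ∧ p.1 * p.2 = x} ≤
      Nat.card {g : G // g * x * g⁻¹ = x⁻¹} := by
  refine Nat.card_le_card_of_injective (fun p => ⟨p.1.1, ?_⟩) ?_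
  · obtain ⟨⟨s, t⟩, hs, ht, rfl⟩ := p
    simp only
    rw [mul_inv_rev, inv_eq_of_orderOf hs, inv_eq_of_orderOf ht, ← mul_assoc s s t,
      mul_self_of_orderOf hs, one_mul]
  · rintro ⟨⟨s, t⟩, hs, ht, rfl⟩ ⟨⟨s', t'⟩, hs', ht', he⟩ h
    simp only [Subtype.mk.injEq] at h
    subst h
    simp only at he
    simp [mul_left_cancel he]

theorem card_real_eq_centralizer (x : G) (hreal : IsConj x x⁻¹) :
    Nat.card {g : G // g * x * g⁻¹ = x⁻¹} =
      Nat.card (Subgroup.centralizer ({x} : Set G)) := by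
  obtain ⟨c, hc⟩ := isConj_iff.1 hreal
  refine Nat.card_congr
    { toFun := fun g => ⟨c⁻¹ * g.1, ?_⟩
      invFun := fun z => ⟨c * z.1, ?_⟩
      left_inv := fun g => by ext; simp
      right_inv := fun z => by ext; simp }
  · rw [Subgroup.mem_centralizer_singleton_iff]
    calc c⁻¹ * g.1 * x = c⁻¹ * (g.1 * x * g.1⁻¹) * g.1 := by group
      _ = c⁻¹ * (c * x * c⁻¹) * g.1 := by rw [g.2, hc]
      _ = x * (c⁻¹ * g.1) := by group
  · have hz := Subgroup.mem_centralizer_singleton_iff.1 z.2
    calc c * z.1 * x * (c * z.1)⁻¹ = c * (z.1 * x) * z.1⁻¹ * c⁻¹ := by group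
      _ = c * (x * z.1) * z.1⁻¹ * c⁻¹ := by rw [hz]
      _ = c * x * c⁻¹ := by group
      _ = x⁻¹ := hc

theorem card_pairs_le [Finite G] (x : G) :
    Nat.card {p : G × G // orderOf p.1 = 2 ∧ orderOf p.2 = 2 ∧ p.1 * p.2 = x} ≤
      Nat.card (Subgroup.centralizer ({x} : Set G)) := by
  rcases isEmpty_or_nonempty {g : G // g * x * g⁻¹ = x⁻¹} with h | h
  · refine (card_pairs_le_real x).trans ?_
    simp
  · obtain ⟨g, hg⟩ := h
    exact (card_pairs_le_real x).trans (card_real_eq_centralizer x (isConj_iff.2 ⟨g, hg⟩)).le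

theorem card_pairs_eq_zero [Finite G] (x : G) (h : ¬ IsConj x x⁻¹) :
    Nat.card {p : G × G // orderOf p.1 = 2 ∧ orderOf p.2 = 2 ∧ p.1 * p.2 = x} = 0 := by
  apply Nat.eq_zero_of_le_zero
  refine (card_pairs_le_real x).trans ?_
  have : IsEmpty {g : G // g * x * g⁻¹ = x⁻¹} := ⟨fun g => h (isConj_iff.2 ⟨g.1, g.2⟩)⟩
  simp

theorem card_pairs_involution [Finite G] (x : G) (hx : orderOf x = 2) :
    Nat.card {p : G × G // orderOf p.1 = 2 ∧ orderOf p.2 = 2 ∧ p.1 * p.2 = x} + 1 =
      Nat.card {t : G // orderOf t = 2 ∧ Commute t x} := by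
  classical
  have hxx := mul_self_of_orderOf hx
  let z : {t : G // orderOf t = 2 ∧ Commute t x} := ⟨x, hx, Commute.refl x⟩
  have e : {p : G × G // orderOf p.1 = 2 ∧ orderOf p.2 = 2 ∧ p.1 * p.2 = x} ≃
      {t : {t : G // orderOf t = 2 ∧ Commute t x} // t ≠ z} :=
    { toFun := fun p => ⟨⟨p.1.1, p.2.1, by
        obtain ⟨⟨s, t⟩, hs, ht, rfl⟩ := p
        show s * (s * t) = s * t * s
        have h := inv_eq_of_mul_eq_one_left hxx
        rw [mul_inv_rev, inv_eq_of_orderOf hs, inv_eq_of_orderOf ht] at h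
        rw [← mul_assoc, mul_self_of_orderOf hs, one_mul, ← h, mul_assoc, mul_self_of_orderOf hs,
          mul_one]⟩, by
        obtain ⟨⟨s, t⟩, hs, ht, hst⟩ := p
        intro h
        have h1 : s = x := congrArg (fun a => a.1) h
        simp only at hst
        rw [h1] at hst
        exact ne_one_of_orderOf ht (mul_eq_left.1 hst)⟩
      invFun := fun t => ⟨(t.1.1, t.1.1 * x), t.1.2.1, by
        refine orderOf_eq_two ?_ ?_
        · show t.1.1 * x * (t.1.1 * x) = 1
          rw [t.1.2.2.symm.mul_mul_mul_comm, mul_self_of_orderOf t.1.2.1, hxx, one_mul]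
        · intro h
          apply t.2
          apply Subtype.ext
          show t.1.1 = x
          rw [eq_inv_of_mul_eq_one_left h, inv_eq_of_orderOf hx], by
        simp [← mul_assoc, mul_self_of_orderOf t.1.2.1]⟩
      left_inv := fun p => by
        obtain ⟨⟨s, t⟩, hs, ht, rfl⟩ := p
        ext <;> simp [← mul_assoc, mul_self_of_orderOf hs]
      right_inv := fun t => rfl }
  rw [Nat.card_congr e]
  have : Fintype {t : G // orderOf t = 2 ∧ Commute t x} := Fintype.ofFinite _
  simp only [Nat.card_eq_fintype_card, Fintype.card_subtype_compl, Fintype.card_subtype_eq]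
  have : 0 < Fintype.card {t : G // orderOf t = 2 ∧ Commute t x} := Fintype.card_pos_iff.2 ⟨z⟩
  omega

theorem card_commuting_add_one_le [Finite G] (x : G) :
    Nat.card {t : G // orderOf t = 2 ∧ Commute t x} + 1 ≤
      Nat.card (Subgroup.centralizer ({x} : Set G)) := by
  let f : Option {t : G // orderOf t = 2 ∧ Commute t x} → Subgroup.centralizer ({x} : Set G) :=
    fun o => o.elim 1 (fun t => ⟨t.1, Subgroup.mem_centralizer_singleton_iff.2 t.2.2⟩)
  have hf : Function.Injective f := by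
    rintro (_ | ⟨a, ha, _⟩) (_ | ⟨b, hb, _⟩) h
    · rfl
    · exact absurd (congrArg Subtype.val h).symm (ne_one_of_orderOf hb)
    · exact absurd (congrArg Subtype.val h) (ne_one_of_orderOf ha)
    · simpa [f] using h
  simpa [Finite.card_option] using Nat.card_le_card_of_injective f hf

theorem card_pairs_involution_le [Finite G] (x : G) (hx : orderOf x = 2) :
    Nat.card {p : G × G // orderOf p.1 = 2 ∧ orderOf p.2 = 2 ∧ p.1 * p.2 = x} + 2 ≤
      Nat.card (Subgroup.centralizer ({x} : Set G)) := by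
  have h1 := card_pairs_involution x hx
  have h2 := card_commuting_add_one_le x
  omega

theorem card_inv_even_add_one [Finite G] (h : Even (Nat.card G)) :
    Odd (Nat.card {t : G // orderOf t = 2}) := by
  classical
  have : Fintype G := Fintype.ofFinite G
  have : Fact (Nat.Prime 2) := ⟨Nat.prime_two⟩
  rw [Nat.card_eq_fintype_card] at h ⊢
  let f : Function.End G := fun g => g⁻¹
  have hf : f^[2 ^ 1] = id := by funext g; simp [f]
  have hmod := Equiv.Perm.card_fixedPoints_modEq (p := 2) (n := 1) (f := f) hf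
  have hfix : Fintype.card (Function.fixedPoints f) = Fintype.card {t : G // orderOf t = 2} + 1 := by
    rw [← Fintype.card_option]
    refine Fintype.card_congr
      { toFun := fun g => if hg : g.1 = 1 then none else some ⟨g.1, ?_⟩
        invFun := fun o => o.elim ⟨1, ?_⟩ (fun t => ⟨t.1, ?_⟩)
        left_inv := fun g => ?_
        right_inv := fun o => ?_ }
    · exact orderOf_eq_two (mul_eq_one_iff_eq_inv.2 g.2.symm) hg
    · simp [f, Function.fixedPoints, Function.IsFixedPt]
    · simp [f, Function.fixedPoints, Function.IsFixedPt, inv_eq_of_orderOf t.2]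
    · by_cases hg : g.1 = 1
      · simp [hg]; exact Subtype.ext hg.symm
      · simp [hg]
    · rcases o with _ | t
      · simp
      · simp [ne_one_of_orderOf t.2]
  rw [hfix] at hmod
  rw [Nat.odd_iff]
  have := Nat.even_iff.1 h
  unfold Nat.ModEq at hmod
  omega

end CfsgLib.Invol
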