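import Cfsg.Agent.Invol.ElemCentralizer
import Cfsg.Agent.BSW.Recog
import Mathlib.FieldTheory.Finite.GaloisField
import Mathlib.FieldTheory.Finite.Basic

/-!
Groups with elementary abelian involution centralizers are the groups `PSL(2, 2^n)`.
-/

set_option autoImplicit false
set_option linter.style.haveILetI false

namespace CfsgLib.Invol.ElemCentralizer

open CfsgLib.Invol OnePoint
open scoped IsMulCommutative

universe u

variable {G : Type u} [Group G] [Finite G] {T : Sylow 2 G} (h : Hyp T)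
include h

/-- `T` is a line over a field whose multiplicative group is the two-point stabilizer. -/
theorem exists_field {w : G} (hw : orderOf w = 2) (hwH : w ∉ pt T) :
    ∃ (R : Type u) (_ : Field R) (_ : Fintype R) (τ : R → G),
      Fintype.card R = Nat.card T ∧ Function.Injective τ ∧ (∀ a b, τ (a + b) = τ a * τ b) ∧
      (∀ a, τ a ∈ (T : Subgroup G)) ∧ (∀ x ∈ (T : Subgroup G), ∃ a, τ a = x) ∧
      (∀ c ∈ two T w, ∃ r : R, r ≠ 0 ∧ ∀ a, c * τ a * c⁻¹ = τ (r * a)) ∧
      (∀ r : R, r ≠ 0 → ∃ c ∈ two T w, ∀ a, c * τ a * c⁻¹ = τ (r * a)) := by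
  classical
  set Q : Subgroup G := (T : Subgroup G) with hQ
  set D := two T w with hD
  letI : CommGroup Q :=
    { (inferInstance : Group Q) with mul_comm := fun x y => Subtype.ext ((sq_eq_one h x.2).2 y y.2) }
  have hnorm : ∀ c ∈ D, ∀ x ∈ Q, c * x * c⁻¹ ∈ Q := fun c hc x hx => (Subgroup.mem_normalizer_iff.1 hc.1 x).1 hx
  let E : D → AddMonoid.End (Additive Q) := fun c =>
    AddMonoidHom.mk' (fun x => Additive.ofMul (⟨(c : G) * (x.toMul : G) * (c : G)⁻¹, hnorm c c.2 _ x.toMul.2⟩ : Q))
      fun x y => by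
        refine congrArg Additive.ofMul (Subtype.ext ?_)
        show (c : G) * ((x.toMul : G) * (y.toMul : G)) * (c : G)⁻¹ =
          (c : G) * (x.toMul : G) * (c : G)⁻¹ * ((c : G) * (y.toMul : G) * (c : G)⁻¹)
        group
  have hE : ∀ c x, (((E c x).toMul : Q) : G) = (c : G) * (x.toMul : G) * (c : G)⁻¹ := fun _ _ => rfl
  set gens : Set (AddMonoid.End (Additive Q)) := Set.range E with hgens
  set R := Subring.closure gens with hR
  haveI hRc : IsMulCommutative R := Subring.isMulCommutative_closure (by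
    rintro _ ⟨c, rfl⟩ _ ⟨c', rfl⟩
    refine AddMonoidHom.ext fun x => congrArg Additive.ofMul (Subtype.ext ?_)
    show (c : G) * ((c' : G) * (x.toMul : G) * (c' : G)⁻¹) * (c : G)⁻¹ =
      (c' : G) * ((c : G) * (x.toMul : G) * (c : G)⁻¹) * (c' : G)⁻¹
    calc _ = ((c : G) * c') * (x.toMul : G) * ((c : G) * c')⁻¹ := by group
      _ = _ := by rw [two_comm h hw hwH c.2 c'.2]; group)
  have horbit : ∀ x y : Additive Q, x ≠ 0 → y ≠ 0 → ∃ c, E c x = y := by
    intro x y hx hy
    have hx2 := orderOf_of_mem h x.toMul.2 fun e => hx (congrArg Additive.ofMul (Subtype.ext e : x.toMul = 1))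
    have hy2 := orderOf_of_mem h y.toMul.2 fun e => hy (congrArg Additive.ofMul (Subtype.ext e : y.toMul = 1))
    obtain ⟨d, hd, hde⟩ := (Cfsg.Agent.S1225.result _ (stronglyEmbedded h) w hw hwH _ _ hx2
      (Subgroup.le_normalizer x.toMul.2) hy2 (Subgroup.le_normalizer y.toMul.2)).1
    exact ⟨⟨d, hd⟩, congrArg Additive.ofMul (Subtype.ext hde)⟩
  have hcomm : ∀ (r : R) (c : D) (x : Additive Q),
      (r : AddMonoid.End (Additive Q)) (E c x) = E c ((r : AddMonoid.End (Additive Q)) x) := fun r c x =>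
    DFunLike.congr_fun (congrArg Subtype.val (hRc.is_comm.comm r ⟨_, Subring.subset_closure ⟨c, rfl⟩⟩)) x
  have hinj : ∀ r : R, r ≠ 0 → ∀ x, (r : AddMonoid.End (Additive Q)) x = 0 → x = 0 := by
    intro r hr x hx
    by_contra hx0
    refine hr (Subtype.ext (AddMonoidHom.ext fun y => ?_))
    show (r : AddMonoid.End (Additive Q)) y = 0
    by_cases hy : y = 0
    · rw [hy, map_zero]
    · obtain ⟨c, rfl⟩ := horbit x y hx0 hy
      rw [hcomm, hx, map_zero]
  obtain ⟨v0, hv0⟩ : ∃ v : Additive Q, v ≠ 0 := by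
    obtain ⟨t, ht, ht2⟩ := exists_invol h
    exact ⟨Additive.ofMul ⟨t, ht⟩, fun e => ne_one_of_orderOf ht2 (congrArg (fun z : Additive Q => (z.toMul : G)) e)⟩
  let ev : R →+ Additive Q :=
    { toFun := fun r => (r : AddMonoid.End (Additive Q)) v0
      map_zero' := rfl
      map_add' := fun _ _ => rfl }
  have hev : Function.Bijective ev := by
    refine ⟨(injective_iff_map_eq_zero ev).2 fun r hr => ?_, fun y => ?_⟩
    · by_contra hne
      exact hv0 (hinj r hne v0 hr)
    · by_cases hy : y = 0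
      · exact ⟨0, hy.symm⟩
      · obtain ⟨c, hc⟩ := horbit v0 y hv0 hy
        exact ⟨⟨E c, Subring.subset_closure ⟨c, rfl⟩⟩, hc⟩
  haveI : Finite (AddMonoid.End (Additive Q)) := DFunLike.finite _
  haveI : Nontrivial (Additive Q) := ⟨⟨v0, 0, hv0⟩⟩
  haveI : Nontrivial R := hev.2.nontrivial
  haveI : NoZeroDivisors R := ⟨fun {a b} hab => by
    by_contra hne
    push Not at hne
    refine hne.2 (hev.1 ?_)
    rw [map_zero]
    exact hinj a hne.1 _ (DFunLike.congr_fun (congrArg Subtype.val hab) v0)⟩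
  haveI : IsDomain R := NoZeroDivisors.to_isDomain _
  letI : CommRing R := { (inferInstance : Ring R) with mul_comm := hRc.is_comm.comm }
  have hF : IsField R := Finite.isField_of_domain R
  letI : Field R := hF.toField
  letI : Fintype R := Fintype.ofFinite _
  refine ⟨↥R, inferInstance, inferInstance, fun r => ((ev r).toMul : G), ?_, ?_, ?_, fun a => (ev a).toMul.2,
    ?_, ?_, ?_⟩
  · rw [← Nat.card_eq_fintype_card, Nat.card_congr (Equiv.ofBijective _ hev)]
    exact Nat.card_congr Additive.toMul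
  · exact Subtype.val_injective.comp (Additive.toMul.injective.comp hev.1)
  · intro a b
    show ((ev (a + b)).toMul : G) = _
    rw [map_add]; rfl
  · intro x hx
    obtain ⟨a, ha⟩ := hev.2 (Additive.ofMul ⟨x, hx⟩)
    exact ⟨a, congrArg (fun y : Additive Q => (y.toMul : G)) ha⟩
  · intro c hc
    refine ⟨⟨E ⟨c, hc⟩, Subring.subset_closure ⟨⟨c, hc⟩, rfl⟩⟩, fun e => hv0 ?_, fun a => rfl⟩
    have h1 : E ⟨c, hc⟩ v0 = 0 := DFunLike.congr_fun (congrArg Subtype.val e) v0
    have h2 := congrArg (fun z : Additive Q => (z.toMul : G)) h1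
    exact congrArg Additive.ofMul (Subtype.ext (conj_eq_one_iff.1 h2) : v0.toMul = 1)
  · intro r hr
    obtain ⟨c, hc⟩ := horbit v0 (ev r) hv0 (fun e => hr (hev.1 (e.trans (map_zero ev).symm)))
    have hre : r = ⟨E c, Subring.subset_closure ⟨c, rfl⟩⟩ := hev.1 hc.symm
    exact ⟨c, c.2, fun a => by rw [hre]; rfl⟩

theorem exists_fixed {w : G} (hw : orderOf w = 2) : ∃ y : G ⧸ pt T, w • y = y := by
  obtain ⟨t, htT, ht⟩ := exists_invol h
  have hne : ∃ u : G, orderOf u = 2 ∧ u ∉ pt T := by
    obtain ⟨g, -, hg⟩ := SetLike.exists_of_lt (lt_top_iff_ne_top.2 (stronglyEmbedded h).1)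
    obtain ⟨u, hu, huH, -⟩ := exists_involution_to h (y := (g : G ⧸ pt T)) fun e => hg (eq_base_iff.1 e)
    exact ⟨u, hu, huH⟩
  obtain ⟨u, hu, huH⟩ := hne
  obtain ⟨g, hg⟩ := isConj_iff.1 ((Cfsg.Agent.S1225.result _ (stronglyEmbedded h) u hu huH t t ht
    (Subgroup.le_normalizer htT) ht (Subgroup.le_normalizer htT)).2 t w ht hw)
  refine ⟨(g : G ⧸ pt T), smul_eq_iff.2 ?_⟩
  rw [show g⁻¹ * w * g = t by rw [← hg]; group]
  exact Subgroup.le_normalizer htT

theorem nonempty_iso : ∃ (F : Type) (_ : Field F) (_ : Fintype F), Fintype.card F = Nat.card T ∧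
    Nonempty (G ≃* Matrix.ProjectiveSpecialLinearGroup (Fin 2) F) := by
  classical
  obtain ⟨g₀, -, hg₀⟩ := SetLike.exists_of_lt (lt_top_iff_ne_top.2 (stronglyEmbedded h).1)
  obtain ⟨w, hw, hwH, -⟩ := exists_involution_to h (y := (g₀ : G ⧸ pt T)) fun e => hg₀ (eq_base_iff.1 e)
  obtain ⟨R, _, _, τ₀, hcard, hinj, hadd, hmem, hsurj, hD, hD'⟩ := exists_field h hw hwH
  -- move the field to `Type`
  obtain ⟨F, _, _, hK⟩ : ∃ (F : Type) (_ : Field F) (_ : Fintype F), Fintype.card F = Fintype.card R := by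
    obtain ⟨p, n, hp, hn, hpn⟩ := FiniteField.isPrimePow_card R
    haveI := Fact.mk hp.nat_prime
    letI : Fintype (GaloisField p n) := Fintype.ofFinite _
    exact ⟨GaloisField p n, inferInstance, inferInstance, by
      rw [← Nat.card_eq_fintype_card, GaloisField.card p n hn.ne', hpn]⟩
  refine ⟨F, inferInstance, inferInstance, hK.trans hcard, ?_⟩
  let e : R ≃+* F := FiniteField.ringEquivOfCardEq hK.symm
  -- the point fixed by `w`
  have hw' := mul_self_of_orderOf hw
  obtain ⟨y, hy⟩ := exists_fixed h hw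
  set o := base T with ho
  set z : G ⧸ pt T := (w : G ⧸ pt T) with hz
  have hwo : w • o = z := by rw [ho, hz, MulAction.Quotient.smul_coe, smul_eq_mul, mul_one]
  have hwz : w • z = o := by rw [hz, MulAction.Quotient.smul_coe, smul_eq_mul, hw']
  have hzo : z ≠ o := fun e => hwH (eq_base_iff.1 e)
  have hyo : y ≠ o := fun e' => hzo (by rw [← hwo, ← e', hy])
  have hyz : y ≠ z := fun e' => hzo (by rw [← hwz, ← e', hy])
  obtain ⟨t₁, ⟨ht₁, ht₁z⟩, -⟩ := regular h hzo hyo
  obtain ⟨a₁, ha₁⟩ := hsurj t₁ ht₁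
  have ha₁0 : a₁ ≠ 0 := by
    intro e'
    have h0 : τ₀ 0 = 1 := by
      have := hadd 0 0
      rw [add_zero] at this
      exact left_eq_mul.1 this
    rw [e', h0] at ha₁
    exact hyz (by rw [← ht₁z, ← ha₁, one_smul])
  let τ : F → G := fun a => τ₀ (e.symm a * a₁)
  have τadd : ∀ a b, τ (a + b) = τ a * τ b := fun a b => by simp only [τ, map_add, add_mul, hadd]
  have τinj : Function.Injective τ := fun a b hab =>
    e.symm.injective (mul_right_cancel₀ ha₁0 (hinj hab))
  have τsurj : ∀ x ∈ (T : Subgroup G), ∃ a, τ a = x := fun x hx => by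
    obtain ⟨a, rfl⟩ := hsurj x hx
    exact ⟨e (a / a₁), by simp [τ, div_mul_cancel₀ a ha₁0]⟩
  have τmem : ∀ a, τ a ∈ (T : Subgroup G) := fun a => hmem _
  have τzero : τ 0 = 1 := by
    have := τadd 0 0
    rw [add_zero] at this
    exact left_eq_mul.1 this
  let P : OnePoint F → G ⧸ pt T := fun x => Option.elim x o (fun a => τ a • z)
  have Pinf : P ∞ = o := rfl
  have Pcoe : ∀ a : F, P (a : OnePoint F) = τ a • z := fun _ => rfl
  have hτo : ∀ a, τ a • o = o := fun a => smul_base_iff.2 (Subgroup.le_normalizer (τmem a))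
  have hne : ∀ a, τ a • z ≠ o := fun a e' => hzo (MulAction.injective (τ a) (e'.trans (hτo a).symm))
  have hP : Function.Bijective P := by
    constructor
    · intro a b hab
      rcases a with _ | a <;> rcases b with _ | b
      · rfl
      · exact absurd hab.symm (hne b)
      · exact absurd hab (hne a)
      · obtain ⟨t, -, hu'⟩ := regular h hzo (hne b)
        exact congrArg Option.some (τinj ((hu' _ ⟨τmem a, hab⟩).trans (hu' _ ⟨τmem b, rfl⟩).symm))
    · intro x
      by_cases hx : x = o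
      · exact ⟨∞, hx.symm⟩
      · obtain ⟨t, ⟨ht, htx⟩, -⟩ := regular h hzo hx
        obtain ⟨a, rfl⟩ := τsurj t ht
        exact ⟨(a : OnePoint F), htx⟩
  let σ : G →* Equiv.Perm (OnePoint F) :=
    ((Equiv.ofBijective P hP).symm.permCongrHom.toMonoidHom).comp (MulAction.toPermHom G (G ⧸ pt T))
  have σeq : ∀ {g : G} {a b : OnePoint F}, g • P a = P b → σ g a = b := by
    intro g a b hab
    show (Equiv.ofBijective P hP).symm (g • (Equiv.ofBijective P hP) a) = b
    rw [Equiv.symm_apply_eq]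
    exact hab
  have σinj : Function.Injective σ := by
    refine (injective_iff_map_eq_one σ).2 fun g hg => ?_
    have hfix : ∀ a, g • P a = P a := fun a => by
      have h1 : σ g a = a := by rw [hg]; rfl
      have h2 : (Equiv.ofBijective P hP).symm (g • P a) = a := h1
      rwa [Equiv.symm_apply_eq] at h2
    exact three_fixed h g (P ∞) (P ((0 : F) : OnePoint F)) (P ((1 : F) : OnePoint F))
      (fun e' => OnePoint.infty_ne_coe _ (hP.1 e')) (fun e' => OnePoint.infty_ne_coe _ (hP.1 e'))
      (fun e' => zero_ne_one (OnePoint.coe_injective (hP.1 e'))) (hfix _) (hfix _) (hfix _)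
  have σττ : ∀ a r : F, σ (τ a) (r : OnePoint F) = ((a + r : F) : OnePoint F) := fun a r =>
    σeq (by rw [Pcoe, Pcoe, ← mul_smul, τadd])
  have στinf : ∀ a : F, σ (τ a) ∞ = ∞ := fun a => σeq (by rw [Pinf, hτo])
  have σw0 : σ w ((0 : F) : OnePoint F) = ∞ := σeq (by rw [Pcoe, Pinf, τzero, one_smul, hwz])
  have σwinf : σ w ∞ = ((0 : F) : OnePoint F) := σeq (by rw [Pcoe, Pinf, τzero, one_smul, hwo])
  have Pone : P ((1 : F) : OnePoint F) = y := by
    rw [Pcoe]
    show τ₀ (e.symm 1 * a₁) • z = y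
    rw [map_one, one_mul, ha₁, ht₁z]
  have σwcoe : ∀ r : F, r ≠ 0 → σ w (r : OnePoint F) = ((r⁻¹ : F) : OnePoint F) := by
    intro r hr
    obtain ⟨c, hc, hcr⟩ := hD' (e.symm r) (by simpa using hr)
    have hcτ : ∀ a, c * τ a * c⁻¹ = τ (r * a) := fun a => by
      show c * τ₀ (e.symm a * a₁) * c⁻¹ = τ₀ (e.symm (r * a) * a₁)
      rw [hcr, map_mul, mul_assoc]
    have hcz : ∀ d ∈ two T w, d • z = z := fun d hd => ((mem_two_iff_fixes hw).1 hd).2
    have hci : c⁻¹ ∈ two T w := (two T w).inv_mem hc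
    have hcτ' : c⁻¹ * τ 1 * c = τ r⁻¹ := by
      have h1 := hcτ r⁻¹
      rw [mul_inv_cancel₀ hr] at h1
      rw [← h1]; group
    have e1 : c • P ((1 : F) : OnePoint F) = P (r : OnePoint F) := by
      rw [Pcoe, Pcoe, ← mul_smul, show c * τ 1 = τ r * c by
        have h1 := hcτ 1; rw [mul_one] at h1; rw [← h1]; group, mul_smul, hcz c hc]
    have e2 : c⁻¹ • P ((1 : F) : OnePoint F) = P ((r⁻¹ : F) : OnePoint F) := by
      rw [Pcoe, Pcoe, ← mul_smul, show c⁻¹ * τ 1 = τ r⁻¹ * c⁻¹ by rw [← hcτ']; group, mul_smul, hcz _ hci]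
    refine σeq ?_
    rw [← e1, ← mul_smul, show w * c = c⁻¹ * w by rw [← inverts h hw hwH hc]; group, mul_smul, Pone, hy, ← Pone, e2]
  have hall : ∀ M : Matrix.SpecialLinearGroup (Fin 2) F, BSW.moebius M ∈ σ.range := by
    suffices hs : Subgroup.comap (BSW.moebius (F := F)) σ.range = ⊤ from fun M => by
      have hM : M ∈ Subgroup.comap (BSW.moebius (F := F)) σ.range := by rw [hs]; exact Subgroup.mem_top _
      exact hM
    refine SLn.eq_top_of_transvection _ fun i j hij c => Subgroup.mem_comap.2 ?_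
    fin_cases i <;> fin_cases j
    · exact absurd rfl hij
    · refine ⟨τ c, Equiv.ext fun x => ?_⟩
      rcases x with _ | k
      · show σ _ ∞ = BSW.moebius _ ∞
        rw [στinf, BSW.moebius_infty]
        simp [Matrix.SpecialLinearGroup.transvection_coe]
      · show σ _ (k : OnePoint F) = BSW.moebius _ (k : OnePoint F)
        rw [σττ, BSW.moebius_coe]
        simp [Matrix.SpecialLinearGroup.transvection_coe, add_comm]
    · refine ⟨w * τ c * w, Equiv.ext fun x => ?_⟩
      rw [map_mul, map_mul, Equiv.Perm.mul_apply, Equiv.Perm.mul_apply]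
      rcases x with _ | k
      · show σ w (σ _ (σ w ∞)) = BSW.moebius _ ∞
        rw [σwinf, σττ, add_zero, BSW.moebius_infty]
        rcases eq_or_ne c 0 with rfl | hc
        · rw [σw0]; simp [Matrix.SpecialLinearGroup.transvection_coe]
        · rw [σwcoe _ hc]
          simp [Matrix.SpecialLinearGroup.transvection_coe, hc]
      · show σ w (σ _ (σ w (k : OnePoint F))) = BSW.moebius _ (k : OnePoint F)
        rw [BSW.moebius_coe]
        rcases eq_or_ne k 0 with rfl | hk
        · rw [σw0, στinf, σwinf]; simp [Matrix.SpecialLinearGroup.transvection_coe]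
        · rw [σwcoe _ hk, σττ]
          rcases eq_or_ne (c * k + 1) 0 with h' | h'
          · rw [show c + k⁻¹ = 0 by field_simp; linear_combination h', σw0]
            simp [Matrix.SpecialLinearGroup.transvection_coe, h']
          · have h2 : c + k⁻¹ ≠ 0 := by
              rw [show c + k⁻¹ = (c * k + 1) / k by field_simp]
              exact div_ne_zero h' hk
            rw [σwcoe _ h2]
            simp [Matrix.SpecialLinearGroup.transvection_coe, h']
            field_simp
    · exact absurd rfl hij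
  have hle : (BSW.moebiusP (F := F)).range ≤ σ.range := by
    rintro _ ⟨x, rfl⟩
    induction x using QuotientGroup.induction_on with
    | H M => exact hall M
  have hcards : Nat.card (Matrix.ProjectiveSpecialLinearGroup (Fin 2) F) = Nat.card G := by
    have h1 := SLn.card_PSL2_eq F
    have hcF : Nat.card T = Fintype.card F := (hK.trans hcard).symm
    have h2 := card_pt h hw hwH
    have h3 := card_two h hw hwH
    have hidx : (pt T).index = Fintype.card F + 1 := by
      rw [Subgroup.index, Nat.card_congr (Equiv.ofBijective P hP).symm]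
      show Nat.card (Option F) = _
      rw [Nat.card_eq_fintype_card, Fintype.card_option]
    obtain ⟨k, hk⟩ := IsPGroup.iff_card.1 T.isPGroup'
    have heven : Even (Fintype.card F) := by
      rw [← hcF, hk, Nat.even_pow]
      refine ⟨even_two, fun e' => ?_⟩
      have := four_le h
      rw [hk, e'] at this
      omega
    have hgcd : Nat.gcd 2 (Fintype.card F - 1) = 1 := by
      refine Nat.coprime_two_left.2 ?_
      obtain ⟨m, hm⟩ := heven
      have := Fintype.one_lt_card (α := F)
      exact ⟨m - 1, by omega⟩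
    have h4 := Subgroup.card_mul_index (pt T)
    rw [h2, hidx, hcF] at h4
    rw [hgcd, show Fintype.card F ^ 2 - 1 = (Fintype.card F + 1) * (Fintype.card F - 1) by
      rw [← Nat.sq_sub_sq, one_pow]] at h1
    rw [show Nat.card (two T w) = Fintype.card F - 1 by omega] at h4
    rw [← h4]
    linear_combination h1
  have e1 := MonoidHom.ofInjective (BSW.moebiusP_injective (F := F))
  have e2 := MonoidHom.ofInjective σinj
  have heq : (BSW.moebiusP (F := F)).range = σ.range := Subgroup.eq_of_le_of_card_ge hle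
    (by rw [← Nat.card_congr e1.toEquiv, ← Nat.card_congr e2.toEquiv, hcards])
  exact ⟨e2.trans ((MulEquiv.subgroupCongr heq.symm).trans e1.symm)⟩

end CfsgLib.Invol.ElemCentralizer
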