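import Cfsg.Agent.Invol.Dihedral
import Cfsg.Prelude.Def_Involutions
import Mathlib.GroupTheory.Perm.Cycle.Type
import Mathlib.GroupTheory.Coset.Basic
import Mathlib.GroupTheory.GroupAction.Quotient

/-!
Elementary properties of strongly embedded subgroups.
-/

set_option autoImplicit false

namespace CfsgLib.Invol

variable {G : Type*} [Group G] [Finite G] {H : Subgroup G}

theorem exists_involution_of_even {K : Subgroup G} (h : Even (Nat.card K)) : ∃ t ∈ K, orderOf t = 2 := by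
  haveI : Fact (Nat.Prime 2) := ⟨Nat.prime_two⟩
  obtain ⟨t, ht⟩ := exists_prime_orderOf_dvd_card' (G := K) 2 (even_iff_two_dvd.1 h)
  exact ⟨t, t.2, by rw [Subgroup.orderOf_coe]; exact ht⟩

theorem mem_of_conj_mem (hH : Cfsg.IsStronglyEmbedded H) {t g : G} (ht : orderOf t = 2) (htH : t ∈ H)
    (hg : g * t * g⁻¹ ∈ H) : g ∈ H := by
  by_contra hgH
  have hmem : g * t * g⁻¹ ∈ H ⊓ H.map (MulAut.conj g).toMonoidHom := ⟨hg, t, htH, by simp⟩
  have h1 := Subgroup.orderOf_dvd_natCard _ hmem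
  rw [orderOf_conj, ht] at h1
  exact Nat.not_even_iff_odd.2 (hH.2.2 g hgH) (even_iff_two_dvd.2 h1)

theorem centralizer_le_of_stronglyEmbedded (hH : Cfsg.IsStronglyEmbedded H) {t : G} (ht : orderOf t = 2)
    (htH : t ∈ H) : Subgroup.centralizer ({t} : Set G) ≤ H := fun g hg =>
  mem_of_conj_mem hH ht htH (by rw [Subgroup.mem_centralizer_singleton_iff.1 hg, mul_inv_cancel_right]; exact htH)

theorem stronglyEmbedded_of_forall (hne : H ≠ ⊤) (heven : Even (Nat.card H))
    (h : ∀ t ∈ H, orderOf t = 2 → ∀ g : G, g * t * g⁻¹ ∈ H → g ∈ H) : Cfsg.IsStronglyEmbedded H := by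
  refine ⟨hne, heven, fun g hg => Nat.not_even_iff_odd.1 fun he => hg ?_⟩
  obtain ⟨t, ⟨htH, s, hsH, hs⟩, ht⟩ := exists_involution_of_even he
  have hs' : g * s * g⁻¹ = t := hs
  refine h s hsH ?_ g (hs' ▸ htH)
  rw [← orderOf_conj g s, hs', ht]

/-- An involution inside and one outside are joined by a unique midpoint involution. -/
theorem existsUnique_midpoint (hH : Cfsg.IsStronglyEmbedded H) {s i : G} (hs : orderOf s = 2) (hsH : s ∈ H)
    (hi : orderOf i = 2) (hiH : i ∉ H) : ∃! w : G, orderOf w = 2 ∧ w * s * w = i := by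
  have hs' := mul_self_of_orderOf hs
  have hi' := mul_self_of_orderOf hi
  have hodd : Odd (orderOf (s * i)) := by
    rcases Nat.even_or_odd (orderOf (s * i)) with he | ho
    · exfalso
      obtain ⟨hz, hzs, hzi⟩ := half_pow hs' hi' he
      set z := (s * i) ^ (orderOf (s * i) / 2)
      have hzH : z ∈ H := centralizer_le_of_stronglyEmbedded hH hs hsH (Subgroup.mem_centralizer_singleton_iff.2 hzs.eq)
      exact hiH (centralizer_le_of_stronglyEmbedded hH hz hzH (Subgroup.mem_centralizer_singleton_iff.2 hzi.symm.eq))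
    · exact ho
  obtain ⟨d, hd, hdi⟩ := (exists_conj_iff_odd hs' hi').2 hodd
  -- replace `d` by an involution of the dihedral group
  have hex : ∃ w ∈ Subgroup.closure ({s, i} : Set G), orderOf w = 2 ∧ w * s * w = i := by
    obtain ⟨k, hk | hk⟩ := mem_closure_pair hs' hi' hd
    · have hw2 := zpow_mul_self_sq hs' hi' k
      have hw : (s * i) ^ k * s * s * ((s * i) ^ k * s) = i := by
        have hinv : ((s * i) ^ k * s)⁻¹ = (s * i) ^ k * s := inv_eq_of_mul_eq_one_left hw2
        calc (s * i) ^ k * s * s * ((s * i) ^ k * s) = (s * i) ^ k * s * s * ((s * i) ^ k * s)⁻¹ := by rw [hinv]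
          _ = (s * i) ^ k * s * ((s * i) ^ k)⁻¹ := by group
          _ = i := by rw [← hk]; exact hdi
      refine ⟨(s * i) ^ k * s, mul_mem (zpow_mem_closure_pair s i k) (Subgroup.subset_closure (Set.mem_insert s _)),
        orderOf_eq_two hw2 fun h1 => hiH ?_, hw⟩
      rw [h1, one_mul, mul_one] at hw
      rw [← hw]; exact hsH
    · have hw2 := zpow_mul_self_sq hs' hi' k
      rw [← hk] at hw2
      have hinv : d⁻¹ = d := inv_eq_of_mul_eq_one_left hw2
      refine ⟨d, hd, orderOf_eq_two hw2 fun h1 => hiH ?_, by rwa [hinv] at hdi⟩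
      rw [← hdi, h1, one_mul, inv_one, mul_one]; exact hsH
  obtain ⟨w₀, hw₀c, hw₀, hw₀i⟩ := hex
  refine ⟨w₀, ⟨hw₀, hw₀i⟩, fun w hw => ?_⟩
  obtain ⟨hw2, hwi⟩ := hw
  have hw' := mul_self_of_orderOf hw2
  have hw0' := mul_self_of_orderOf hw₀
  set v := w * w₀ with hv
  have hiw : w * i * w = s := by rw [← hwi]; calc _ = (w * w) * s * (w * w) := by group
                                                _ = s := by rw [hw', one_mul, mul_one]
  have his : w₀ * i * w₀ = s := by rw [← hw₀i]; calc _ = (w₀ * w₀) * s * (w₀ * w₀) := by group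
                                                    _ = s := by rw [hw0', one_mul, mul_one]
  have hvinv : v⁻¹ = w₀ * w := by
    rw [hv, _root_.mul_inv_rev, inv_eq_of_orderOf hw2, inv_eq_of_orderOf hw₀]
  have hvs : Commute v s := by
    have h1 : v * s * v⁻¹ = s := by
      rw [hvinv, hv]
      calc _ = w * (w₀ * s * w₀) * w := by group
        _ = s := by rw [hw₀i, hiw]
    exact mul_inv_eq_iff_eq_mul.1 h1
  have hvi : Commute v i := by
    have h1 : v * i * v⁻¹ = i := by
      rw [hvinv, hv]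
      calc _ = w * (w₀ * i * w₀) * w := by group
        _ = i := by rw [his, hwi]
    exact mul_inv_eq_iff_eq_mul.1 h1
  have hvw : Commute v w₀ := by
    have hle : Subgroup.closure ({s, i} : Set G) ≤ Subgroup.centralizer ({v} : Set G) := by
      rw [Subgroup.closure_le]
      rintro y (rfl | rfl)
      · exact Subgroup.mem_centralizer_singleton_iff.2 hvs.symm.eq
      · exact Subgroup.mem_centralizer_singleton_iff.2 hvi.symm.eq
    exact (Subgroup.mem_centralizer_singleton_iff.1 (hle hw₀c)).symm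
  by_contra hne
  have hv1 : v ≠ 1 := fun h1 => hne (by
    calc w = w * (w₀ * w₀) := by rw [hw0', mul_one]
      _ = v * w₀ := by rw [hv, mul_assoc]
      _ = w₀ := by rw [h1, one_mul])
  have hv2 : v * v = 1 := by
    have h1 : v * w₀ = w₀ * v := hvw.eq
    rw [hv, mul_assoc, hw0', mul_one] at h1
    calc v * v = w * (w₀ * w * w₀) := by rw [hv]; group
      _ = w * w := by rw [← show w = w₀ * w * w₀ by rw [mul_assoc]; exact h1]
      _ = 1 := hw'
  have hvH : v ∈ H := centralizer_le_of_stronglyEmbedded hH hs hsH (Subgroup.mem_centralizer_singleton_iff.2 hvs.eq)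
  have hw0H := centralizer_le_of_stronglyEmbedded hH (orderOf_eq_two hv2 hv1) hvH
    (Subgroup.mem_centralizer_singleton_iff.2 hvw.symm.eq)
  exact hiH (hw₀i ▸ H.mul_mem (H.mul_mem hw0H hsH) hw0H)

theorem isConj_inside_outside (hH : Cfsg.IsStronglyEmbedded H) {s i : G} (hs : orderOf s = 2) (hsH : s ∈ H)
    (hi : orderOf i = 2) (hiH : i ∉ H) : IsConj s i := by
  obtain ⟨w, ⟨hw, hwi⟩, -⟩ := existsUnique_midpoint hH hs hsH hi hiH
  exact isConj_iff.2 ⟨w, by rw [inv_eq_of_orderOf hw, hwi]⟩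

/-- A midpoint between `s ∈ H` and `i ∈ gHg⁻¹` lies in `gH`. -/
theorem midpoint_mem_coset (hH : Cfsg.IsStronglyEmbedded H) {g s i w : G} (hs : orderOf s = 2) (hsH : s ∈ H)
    (hw : orderOf w = 2) (hwi : w * s * w = i) (hi : g⁻¹ * i * g ∈ H) : g⁻¹ * w ∈ H := by
  refine mem_of_conj_mem hH hs hsH ?_
  rw [show g⁻¹ * w * s * (g⁻¹ * w)⁻¹ = g⁻¹ * (w * s * w⁻¹) * g by group, inv_eq_of_orderOf hw, hwi]
  exact hi

theorem not_mem_of_conj_mem (hH : Cfsg.IsStronglyEmbedded H) {g i : G} (hg : g ∉ H) (hi : orderOf i = 2)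
    (hi' : g⁻¹ * i * g ∈ H) : i ∉ H := by
  intro hiH
  refine hg (mem_of_conj_mem hH (t := g⁻¹ * i * g) ?_ hi' ?_)
  · have := orderOf_conj g⁻¹ i
    rw [inv_inv] at this
    rw [this, hi]
  · rw [show g * (g⁻¹ * i * g) * g⁻¹ = i by group]
    exact hiH

/-- Every coset other than `H` contains as many involutions as `H`. -/
theorem card_involutions_coset (hH : Cfsg.IsStronglyEmbedded H) {g : G} (hg : g ∉ H) :
    Nat.card {w : G // orderOf w = 2 ∧ g⁻¹ * w ∈ H} = Nat.card {t : G // orderOf t = 2 ∧ t ∈ H} := by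
  let Φ : {w : G // orderOf w = 2 ∧ g⁻¹ * w ∈ H} × {t : G // orderOf t = 2 ∧ t ∈ H} →
      {i : G // orderOf i = 2 ∧ g⁻¹ * i * g ∈ H} × {t : G // orderOf t = 2 ∧ t ∈ H} := fun z =>
    (⟨z.1.1 * z.2.1 * z.1.1, by
        obtain ⟨⟨w, hw, hwg⟩, s, hs, hsH⟩ := z
        refine ⟨?_, ?_⟩
        · have h1 := orderOf_conj w s
          rwa [inv_eq_of_orderOf hw, hs] at h1
        · show g⁻¹ * (w * s * w) * g ∈ H
          have h2 := H.mul_mem (H.mul_mem hwg hsH) (H.inv_mem hwg)
          rw [show g⁻¹ * w * s * (g⁻¹ * w)⁻¹ = g⁻¹ * (w * s * w⁻¹) * g by group, inv_eq_of_orderOf hw] at h2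
          exact h2⟩, z.2)
  have hΦ : Function.Bijective Φ := by
    constructor
    · rintro ⟨⟨w, hw, hwg⟩, ⟨s, hs, hsH⟩⟩ ⟨⟨w', hw', hwg'⟩, ⟨s', hs', hsH'⟩⟩ h
      obtain ⟨h1, h2⟩ := Prod.ext_iff.1 h
      have e2 : s = s' := congrArg Subtype.val h2
      subst e2
      have e1 : w * s * w = w' * s * w' := congrArg Subtype.val h1
      have hio : orderOf (w * s * w) = 2 := by
        have h1 := orderOf_conj w s
        rwa [inv_eq_of_orderOf hw, hs] at h1
      have hiH : w * s * w ∉ H := by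
        refine not_mem_of_conj_mem hH hg hio ?_
        have h2 := H.mul_mem (H.mul_mem hwg hsH) (H.inv_mem hwg)
        rw [show g⁻¹ * w * s * (g⁻¹ * w)⁻¹ = g⁻¹ * (w * s * w⁻¹) * g by group, inv_eq_of_orderOf hw] at h2
        exact h2
      have := (existsUnique_midpoint hH hs hsH hio hiH).unique ⟨hw, rfl⟩ ⟨hw', e1.symm⟩
      subst this
      rfl
    · rintro ⟨⟨i, hi, hig⟩, ⟨s, hs, hsH⟩⟩
      obtain ⟨w, ⟨hw, hwi⟩, -⟩ := existsUnique_midpoint hH hs hsH hi (not_mem_of_conj_mem hH hg hi hig)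
      exact ⟨(⟨w, hw, midpoint_mem_coset hH hs hsH hw hwi hig⟩, ⟨s, hs, hsH⟩), Prod.ext (Subtype.ext hwi) rfl⟩
  have h1 := Nat.card_eq_of_bijective Φ hΦ
  rw [Nat.card_prod, Nat.card_prod] at h1
  have h2 : Nat.card {i : G // orderOf i = 2 ∧ g⁻¹ * i * g ∈ H} = Nat.card {t : G // orderOf t = 2 ∧ t ∈ H} :=
    Nat.card_congr
      { toFun := fun i => ⟨g⁻¹ * i.1 * g, by
          have := orderOf_conj g⁻¹ i.1
          rw [inv_inv] at this
          rw [this]; exact i.2.1, i.2.2⟩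
        invFun := fun t => ⟨g * t.1 * g⁻¹, by rw [orderOf_conj]; exact t.2.1,
          by rw [show g⁻¹ * (g * t.1 * g⁻¹) * g = t.1 by group]; exact t.2.2⟩
        left_inv := fun i => Subtype.ext (by show g * (g⁻¹ * i.1 * g) * g⁻¹ = i.1; group)
        right_inv := fun t => Subtype.ext (by show g⁻¹ * (g * t.1 * g⁻¹) * g = t.1; group) }
  rw [h2] at h1
  obtain ⟨t, htH, ht⟩ := exists_involution_of_even hH.2.1
  haveI : Nonempty {t : G // orderOf t = 2 ∧ t ∈ H} := ⟨⟨t, ht, htH⟩⟩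
  exact Nat.eq_of_mul_eq_mul_right Nat.card_pos h1

end CfsgLib.Invol
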