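import Cfsg.Agent.S1225
import Cfsg.Agent.S1226
import Mathlib.GroupTheory.Complement
import Mathlib.GroupTheory.PGroup

/-!
Groups in which every involution centralizer is an elementary abelian 2-group: the action on `G/N(T)`.
-/

set_option autoImplicit false
set_option linter.style.haveILetI false

namespace CfsgLib.Invol.ElemCentralizer

open CfsgLib.Invol

variable {G : Type*} [Group G] [Finite G]

/-- The standing hypotheses. -/
structure Hyp (T : Sylow 2 G) : Prop where
  notCyclic : ¬ IsCyclic (T : Subgroup G)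
  notNormal : ¬ (T : Subgroup G).Normal
  cent : ∀ t : G, orderOf t = 2 → IsMulCommutative (Subgroup.centralizer ({t} : Set G)) ∧
    ∀ c ∈ Subgroup.centralizer ({t} : Set G), c ^ 2 = 1

/-- The normalizer of `T`. -/
abbrev pt (T : Sylow 2 G) : Subgroup G := Subgroup.normalizer ((T : Subgroup G) : Set G)

/-- The two-point stabilizer. -/
abbrev two (T : Sylow 2 G) (u : G) : Subgroup G := pt T ⊓ (pt T).map (MulAut.conj u).toMonoidHom

/-- The base point. -/
abbrev base (T : Sylow 2 G) : G ⧸ pt T := QuotientGroup.mk 1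

variable {T : Sylow 2 G} (h : Hyp T)
include h

theorem stronglyEmbedded : Cfsg.IsStronglyEmbedded (pt T) :=
  Cfsg.Agent.S1226.result T h.notCyclic h.notNormal h.cent

theorem exists_invol : ∃ t ∈ (T : Subgroup G), orderOf t = 2 := by
  haveI : Fact (Nat.Prime 2) := ⟨Nat.prime_two⟩
  haveI : Nontrivial (T : Subgroup G) := (Subgroup.nontrivial_iff_ne_bot _).2 fun e =>
    h.notCyclic (by rw [e]; infer_instance)
  obtain ⟨z, hz⟩ := exists_prime_orderOf_dvd_card' (G := (T : Subgroup G)) 2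
    (T.isPGroup'.card_eq_or_dvd.resolve_left (Finite.one_lt_card (α := (T : Subgroup G))).ne')
  exact ⟨z, z.2, by rw [Subgroup.orderOf_coe]; exact hz⟩

theorem sq_eq_one {a : G} (ha : a ∈ (T : Subgroup G)) : a ^ 2 = 1 ∧
    ∀ b ∈ (T : Subgroup G), a * b = b * a := by
  haveI : Fact (Nat.Prime 2) := ⟨Nat.prime_two⟩
  haveI : Nontrivial (T : Subgroup G) := (Subgroup.nontrivial_iff_ne_bot _).2 fun e =>
    h.notCyclic (by rw [e]; infer_instance)
  haveI := T.isPGroup'.center_nontrivial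
  obtain ⟨z, hz⟩ := exists_prime_orderOf_dvd_card' (G := Subgroup.center (T : Subgroup G)) 2
    ((T.isPGroup'.to_subgroup _).card_eq_or_dvd.resolve_left (Finite.one_lt_card (α := Subgroup.center (T : Subgroup G))).ne')
  rw [← Subgroup.orderOf_coe, ← Subgroup.orderOf_coe] at hz
  have hle : ∀ c ∈ (T : Subgroup G), c ∈ Subgroup.centralizer ({((z : (T : Subgroup G)) : G)} : Set G) := fun c hc =>
    Subgroup.mem_centralizer_singleton_iff.2 (congrArg Subtype.val (Subgroup.mem_center_iff.1 z.2 ⟨c, hc⟩))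
  refine ⟨(h.cent _ hz).2 _ (hle a ha), fun b hb => ?_⟩
  haveI := (h.cent _ hz).1
  exact congrArg Subtype.val
    (mul_comm' (⟨a, hle a ha⟩ : Subgroup.centralizer ({((z : (T : Subgroup G)) : G)} : Set G)) ⟨b, hle b hb⟩)

theorem orderOf_of_mem {a : G} (ha : a ∈ (T : Subgroup G)) (h1 : a ≠ 1) : orderOf a = 2 :=
  haveI : Fact (Nat.Prime 2) := ⟨Nat.prime_two⟩
  orderOf_eq_prime (sq_eq_one h ha).1 h1

theorem centralizer_eq {t : G} (ht : t ∈ (T : Subgroup G)) (ho : orderOf t = 2) :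
    Subgroup.centralizer ({t} : Set G) = T := by
  refine T.is_maximal' (fun c => ⟨1, Subtype.ext ?_⟩) fun c hc => ?_
  · simpa using (h.cent t ho).2 c c.2
  · exact Subgroup.mem_centralizer_singleton_iff.2 ((sq_eq_one h hc).2 t ht)

omit [Finite G] h in
theorem mem_sylow {t : G} (ht : t ∈ pt T) (ho : orderOf t = 2) : t ∈ (T : Subgroup G) := by
  have hp : IsPGroup 2 (Subgroup.zpowers t) := IsPGroup.of_card (n := 1) (by rw [Nat.card_zpowers, ho, pow_one])
  have h1 := T.is_maximal' (IsPGroup.to_sup_of_normal_right' hp T.isPGroup' (Subgroup.zpowers_le.2 ht)) le_sup_right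
  exact h1 ▸ Subgroup.mem_sup_left (Subgroup.mem_zpowers _)

theorem four_le : 4 ≤ Nat.card T := by
  haveI : Fact (Nat.Prime 2) := ⟨Nat.prime_two⟩
  obtain ⟨k, hk⟩ := IsPGroup.iff_card.1 T.isPGroup'
  by_contra hlt
  apply h.notCyclic
  have hk1 : k ≤ 1 := by
    by_contra hk1
    exact hlt (hk.ge.trans' (Nat.pow_le_pow_right two_pos (show 2 ≤ k by omega)))
  interval_cases k
  · haveI : Subsingleton (T : Subgroup G) := (Nat.card_eq_one_iff_unique.1 (by simpa using hk)).1
    infer_instance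
  · exact isCyclic_of_prime_card (hk.trans (pow_one 2))

theorem card_invol : Nat.card {t : G // orderOf t = 2 ∧ t ∈ pt T} + 1 = Nat.card T := by
  classical
  haveI := Fintype.ofFinite (T : Subgroup G)
  have e : {t : G // orderOf t = 2 ∧ t ∈ pt T} ≃ {t : (T : Subgroup G) // t ≠ 1} :=
    { toFun := fun t => ⟨⟨t.1, mem_sylow t.2.2 t.2.1⟩, fun e => by
        have := t.2.1
        rw [show t.1 = 1 from congrArg Subtype.val e, orderOf_one] at this
        omega⟩
      invFun := fun t => ⟨t.1, orderOf_of_mem h t.1.2 fun e => t.2 (Subtype.ext e), Subgroup.le_normalizer t.1.2⟩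
      left_inv := fun _ => rfl
      right_inv := fun _ => rfl }
  rw [Nat.card_congr e, Nat.card_eq_fintype_card, Fintype.card_subtype_compl, Fintype.card_subtype_eq,
    Nat.card_eq_fintype_card]
  have : 0 < Fintype.card (T : Subgroup G) := Fintype.card_pos
  show Fintype.card (T : Subgroup G) - 1 + 1 = Fintype.card (T : Subgroup G)
  omega

variable {u : G} (hu : orderOf u = 2) (huH : u ∉ pt T)

omit [Finite G] h in
include hu in
theorem mem_two {d : G} : d ∈ two T u ↔ d ∈ pt T ∧ u * d * u ∈ pt T := by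
  have hu' := mul_self_of_orderOf hu
  constructor
  · rintro ⟨hd, e, he, rfl⟩
    refine ⟨hd, ?_⟩
    show u * (u * e * u⁻¹) * u ∈ pt T
    rw [show u * (u * e * u⁻¹) * u = (u * u) * e by group, hu', one_mul]
    exact he
  · rintro ⟨hd, he⟩
    refine ⟨hd, u * d * u, he, ?_⟩
    show u * (u * d * u) * u⁻¹ = d
    rw [show u * (u * d * u) * u⁻¹ = (u * u) * d by group, hu', one_mul]

omit hu in
include huH in
theorem two_odd : Odd (Nat.card (two T u)) := (stronglyEmbedded h).2.2 u huH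

omit hu in
include huH in
theorem eq_one_of_sq {d : G} (hd : d ∈ two T u) (h2 : d ^ 2 = 1) : d = 1 := by
  have h1 : orderOf d ∣ Nat.card (two T u) := Subgroup.orderOf_dvd_natCard _ hd
  rw [← orderOf_eq_one_iff]
  exact Nat.eq_one_of_dvd_coprimes (Nat.coprime_two_left.2 (two_odd h huH)) (orderOf_dvd_of_pow_eq_one h2) h1

omit hu in
include huH in
theorem eq_one_of_commute {d : G} (hd : d ∈ two T u) {t : G} (ho : orderOf t = 2) (hc : Commute d t) : d = 1 :=
  eq_one_of_sq h huH hd ((h.cent t ho).2 d (Subgroup.mem_centralizer_singleton_iff.2 hc.eq))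

include hu huH in
theorem card_two : Nat.card (two T u) + 1 = Nat.card T := by
  obtain ⟨t, htT, ht⟩ := exists_invol h
  have htH : t ∈ pt T := Subgroup.le_normalizer htT
  rw [← card_invol h]
  congr 1
  refine Nat.card_eq_of_bijective (fun d => ⟨(d : G) * t * (d : G)⁻¹, by rw [orderOf_conj, ht],
    mul_mem (mul_mem d.2.1 htH) (inv_mem d.2.1)⟩) ⟨fun a b hab => ?_, fun s => ?_⟩
  · have hab' : (a : G) * t * (a : G)⁻¹ = (b : G) * t * (b : G)⁻¹ := congrArg Subtype.val hab
    have hc : Commute ((b : G)⁻¹ * a) t := by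
      show (b : G)⁻¹ * a * t = t * ((b : G)⁻¹ * a)
      calc (b : G)⁻¹ * a * t = (b : G)⁻¹ * ((a : G) * t * (a : G)⁻¹) * a := by group
        _ = (b : G)⁻¹ * ((b : G) * t * (b : G)⁻¹) * a := by rw [hab']
        _ = _ := by group
    exact Subtype.ext (inv_mul_eq_one.1 (eq_one_of_commute h huH ((two T u).mul_mem (inv_mem b.2) a.2) ht hc)).symm
  · obtain ⟨d, hd, hds⟩ := (Cfsg.Agent.S1225.result _ (stronglyEmbedded h) u hu huH t s.1 ht htH s.2.1 s.2.2).1
    exact ⟨⟨d, hd⟩, Subtype.ext hds⟩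

include hu huH in
theorem decomp {x : G} (hx : x ∈ pt T) : ∃ d ∈ two T u, ∃ a ∈ (T : Subgroup G), x = d * a := by
  obtain ⟨t, htT, ht⟩ := exists_invol h
  have htH : t ∈ pt T := Subgroup.le_normalizer htT
  obtain ⟨d, hd, hds⟩ := (Cfsg.Agent.S1225.result _ (stronglyEmbedded h) u hu huH t (x * t * x⁻¹) ht htH
    (by rw [orderOf_conj, ht]) (mul_mem (mul_mem hx htH) (inv_mem hx))).1
  refine ⟨d, hd, d⁻¹ * x, ?_, by group⟩
  rw [← centralizer_eq h htT ht, Subgroup.mem_centralizer_singleton_iff]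
  calc d⁻¹ * x * t = d⁻¹ * (x * t * x⁻¹) * x := by group
    _ = d⁻¹ * (d * t * d⁻¹) * x := by rw [hds]
    _ = _ := by group

include huH in
theorem two_inf : two T u ⊓ (T : Subgroup G) = ⊥ := by
  rw [eq_bot_iff]
  rintro d ⟨hd, hdT⟩
  exact Subgroup.mem_bot.2 (eq_one_of_sq h huH hd (sq_eq_one h hdT).1)

include hu huH in
theorem card_pt : Nat.card (pt T) = Nat.card (two T u) * Nat.card T := by
  rw [← Nat.card_prod]
  refine (Nat.card_eq_of_bijective (fun x : two T u × (T : Subgroup G) =>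
    (⟨x.1 * x.2, mul_mem x.1.2.1 (Subgroup.le_normalizer x.2.2)⟩ : pt T)) ⟨fun x y hxy => ?_, fun z => ?_⟩).symm
  · have e : (x.1 : G) * x.2 = y.1 * y.2 := congrArg Subtype.val hxy
    have h1 : (y.1 : G)⁻¹ * x.1 ∈ two T u ⊓ (T : Subgroup G) := by
      refine ⟨(two T u).mul_mem (inv_mem y.1.2) x.1.2, ?_⟩
      rw [show (y.1 : G)⁻¹ * x.1 = y.2 * (x.2 : G)⁻¹ by
        rw [eq_mul_inv_iff_mul_eq, mul_assoc, e, inv_mul_cancel_left]]
      exact (T : Subgroup G).mul_mem y.2.2 ((T : Subgroup G).inv_mem x.2.2)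
    rw [two_inf h huH, Subgroup.mem_bot, inv_mul_eq_one] at h1
    refine Prod.ext (Subtype.ext h1.symm) (Subtype.ext ?_)
    rw [h1] at e
    exact mul_left_cancel e
  · obtain ⟨d, hd, a, ha, e⟩ := decomp h hu huH z.2
    exact ⟨(⟨d, hd⟩, ⟨a, ha⟩), Subtype.ext e.symm⟩

include hu huH in
theorem inverts {d : G} (hd : d ∈ two T u) : u * d * u⁻¹ = d⁻¹ := by
  classical
  have hu' := mul_self_of_orderOf hu
  let ι : {w : G // orderOf w = 2 ∧ u⁻¹ * w ∈ pt T} → {e : two T u // u * (e : G) * u⁻¹ = (e : G)⁻¹} := fun w =>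
    ⟨⟨u⁻¹ * w.1, (mem_two hu).2 ⟨w.2.2, by
      have h1 := inv_mem w.2.2
      rw [mul_inv_rev, inv_inv, inv_eq_of_orderOf w.2.1] at h1
      rw [show u * (u⁻¹ * w.1) * u = w.1 * u by group]
      exact h1⟩⟩, by
      show u * (u⁻¹ * w.1) * u⁻¹ = (u⁻¹ * w.1)⁻¹
      rw [mul_inv_rev, inv_inv, inv_eq_of_orderOf w.2.1, mul_inv_cancel_left]
      congr 1
      exact inv_eq_of_orderOf hu⟩
  have hinj : Function.Injective ι := fun a b hab => Subtype.ext (mul_left_cancel (congrArg (fun e => ((e.1 : two T u) : G)) hab))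
  have hcard : Nat.card (two T u) ≤ Nat.card {e : two T u // u * (e : G) * u⁻¹ = (e : G)⁻¹} := by
    refine le_trans (le_of_eq ?_) (Nat.card_le_card_of_injective ι hinj)
    rw [card_involutions_coset (stronglyEmbedded h) huH]
    have := card_two h hu huH
    have := card_invol h
    omega
  haveI := Fintype.ofFinite (two T u)
  rw [Nat.card_eq_fintype_card, Nat.card_eq_fintype_card] at hcard
  have hbij := ((Fintype.bijective_iff_injective_and_card _).2 ⟨Subtype.val_injective,
    le_antisymm (Fintype.card_subtype_le fun e : two T u => u * (e : G) * u⁻¹ = (e : G)⁻¹) hcard⟩).2 ⟨d, hd⟩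
  obtain ⟨⟨e, he⟩, rfl⟩ := hbij
  exact he

include hu huH in
theorem two_comm {a b : G} (ha : a ∈ two T u) (hb : b ∈ two T u) : a * b = b * a := by
  have h1 := inverts h hu huH ((two T u).mul_mem (inv_mem ha) (inv_mem hb))
  rw [mul_inv_rev, inv_inv, inv_inv,
    show u * (a⁻¹ * b⁻¹) * u⁻¹ = (u * a * u⁻¹)⁻¹ * (u * b * u⁻¹)⁻¹ by group,
    inverts h hu huH ha, inverts h hu huH hb, inv_inv, inv_inv] at h1
  exact h1

omit [Finite G] h in
theorem smul_eq_iff {x g : G} : x • (g : G ⧸ pt T) = (g : G ⧸ pt T) ↔ g⁻¹ * x * g ∈ pt T := by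
  rw [MulAction.Quotient.smul_coe, eq_comm, QuotientGroup.eq, smul_eq_mul, mul_assoc]

omit [Finite G] h in
theorem smul_base_iff {x : G} : x • base T = base T ↔ x ∈ pt T := by
  rw [smul_eq_iff, inv_one, one_mul, mul_one]

omit [Finite G] h in
theorem eq_base_iff {g : G} : (g : G ⧸ pt T) = base T ↔ g ∈ pt T := by
  rw [QuotientGroup.eq, mul_one, Subgroup.inv_mem_iff]

theorem involution_fixes {t : G} (ht : orderOf t = 2) (htH : t ∈ pt T) {y : G ⧸ pt T} (hy : t • y = y) :
    y = base T := by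
  obtain ⟨g, rfl⟩ := QuotientGroup.mk_surjective y
  rw [smul_eq_iff] at hy
  have := mem_of_conj_mem (stronglyEmbedded h) (g := g⁻¹) ht htH (by rwa [inv_inv])
  exact eq_base_iff.2 (by simpa using (pt T).inv_mem this)

theorem exists_involution_to {y : G ⧸ pt T} (hy : y ≠ base T) :
    ∃ w : G, orderOf w = 2 ∧ w ∉ pt T ∧ (w : G ⧸ pt T) = y := by
  obtain ⟨g, rfl⟩ := QuotientGroup.mk_surjective y
  have hg : g ∉ pt T := fun hg => hy (eq_base_iff.2 hg)
  haveI : Nonempty {w : G // orderOf w = 2 ∧ g⁻¹ * w ∈ pt T} := by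
    refine (Nat.card_pos_iff.1 ?_).1
    rw [card_involutions_coset (stronglyEmbedded h) hg]
    have := card_invol h
    have := four_le h
    omega
  obtain ⟨⟨w, hw, hwg⟩⟩ := this
  refine ⟨w, hw, fun hwH => hg ?_, (QuotientGroup.eq.2 hwg).symm⟩
  have := (pt T).mul_mem hwH ((pt T).inv_mem hwg)
  rwa [mul_inv_rev, inv_inv, mul_inv_cancel_left] at this

omit h in
include hu in
theorem mem_two_iff_fixes {d : G} : d ∈ two T u ↔ d • base T = base T ∧ d • (u : G ⧸ pt T) = u := by
  rw [mem_two hu, smul_base_iff, smul_eq_iff, inv_eq_of_orderOf hu]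

include hu huH in
theorem centralizer_inf {d : G} (hd : d ∈ two T u) (h1 : d ≠ 1) {x : G} (hx : x ∈ pt T) (hc : Commute x d) :
    x ∈ two T u := by
  obtain ⟨e, he, a, ha, rfl⟩ := decomp h hu huH hx
  have hc' : Commute a d := by
    have := (show Commute e⁻¹ d from two_comm h hu huH (inv_mem he) hd).mul_left hc
    rwa [inv_mul_cancel_left] at this
  by_cases ha1 : a = 1
  · simpa [ha1] using he
  · exact absurd (eq_one_of_commute h huH hd (orderOf_of_mem h ha ha1) hc'.symm) h1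

include hu huH in
/-- A nontrivial element of the two-point stabilizer fixes exactly two points. -/
theorem fixes_two {d : G} (hd : d ∈ two T u) (h1 : d ≠ 1) {y : G ⧸ pt T} (hy : d • y = y) :
    y = base T ∨ y = (u : G ⧸ pt T) := by
  classical
  haveI := Fintype.ofFinite (G ⧸ pt T)
  haveI := Fintype.ofFinite G
  set q := Nat.card (two T u) with hq
  set o := base T with ho
  let F : Finset (G ⧸ pt T) := Finset.univ.filter fun x => d • x = x
  let C := Subgroup.centralizer ({d} : Set G)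
  let J : Finset G := Finset.univ.filter fun w => orderOf w = 2 ∧ w * d * w⁻¹ = d⁻¹
  have hFu : (u : G ⧸ pt T) ∈ F := Finset.mem_filter.2 ⟨Finset.mem_univ _, ((mem_two_iff_fixes hu).1 hd).2⟩
  have hFo : o ∈ F := Finset.mem_filter.2 ⟨Finset.mem_univ _, ((mem_two_iff_fixes hu).1 hd).1⟩
  have huo : (u : G ⧸ pt T) ≠ o := fun e => huH (eq_base_iff.1 e)
  have hd4 : d ^ 2 ≠ 1 := fun e => h1 (eq_one_of_sq h huH hd e)
  have hCodd : Odd (Nat.card C) := by
    rw [← Nat.not_even_iff_odd]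
    intro hev
    obtain ⟨t, htC, ht⟩ := exists_involution_of_even hev
    exact h1 (eq_one_of_commute h huH hd ht (Subgroup.mem_centralizer_singleton_iff.1 htC).symm)
  -- involutions inverting `d` fix no fixed point of `d`
  have hJfix : ∀ w ∈ J, ∀ x ∈ F, w • x ≠ x := by
    intro w hw x hx hwx
    obtain ⟨-, hw2, hwd⟩ := Finset.mem_filter.1 hw
    obtain ⟨g, rfl⟩ := QuotientGroup.mk_surjective x
    have hdx := smul_eq_iff.1 (Finset.mem_filter.1 hx).2
    have hwx' := smul_eq_iff.1 hwx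
    set t := g⁻¹ * w * g
    set e := g⁻¹ * d * g
    have ht2 : orderOf t = 2 := by
      have := orderOf_conj g⁻¹ w
      rw [inv_inv] at this
      rw [this, hw2]
    have htT := mem_sylow hwx' ht2
    have hcT : t * (e * t⁻¹ * e⁻¹) ∈ (T : Subgroup G) :=
      mul_mem htT ((Subgroup.mem_normalizer_iff.1 hdx _).1 (inv_mem htT))
    have he : t * e * t⁻¹ = e⁻¹ := by
      calc t * e * t⁻¹ = g⁻¹ * (w * d * w⁻¹) * g := by simp only [t, e]; group
        _ = g⁻¹ * d⁻¹ * g := by rw [hwd]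
        _ = e⁻¹ := by simp only [e]; group
    rw [show t * (e * t⁻¹ * e⁻¹) = t * e * t⁻¹ * e⁻¹ by group, he] at hcT
    have h2 := (sq_eq_one h hcT).1
    rw [show (e⁻¹ * e⁻¹) ^ 2 = (e ^ 4)⁻¹ by group, inv_eq_one] at h2
    have h4 : d ^ 4 = 1 := by
      have : e ^ 4 = g⁻¹ * d ^ 4 * g := by
        simpa [e] using (map_pow (MulAut.conj g⁻¹) d 4).symm
      rw [this] at h2
      calc d ^ 4 = g * (g⁻¹ * d ^ 4 * g) * g⁻¹ := by group
        _ = 1 := by rw [h2]; group
    exact hd4 (eq_one_of_sq h huH ((two T u).pow_mem hd 2) (by rw [← pow_mul]; exact h4))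
  have huJ : u ∈ J := Finset.mem_filter.2 ⟨Finset.mem_univ _, hu, inverts h hu huH hd⟩
  have hJperm : ∀ w ∈ J, ∀ x ∈ F, w • x ∈ F := by
    intro w hw x hx
    obtain ⟨-, hw2, hwd⟩ := Finset.mem_filter.1 hw
    refine Finset.mem_filter.2 ⟨Finset.mem_univ _, ?_⟩
    have hx' : d⁻¹ • x = x := inv_smul_eq_iff.2 (Finset.mem_filter.1 hx).2.symm
    rw [← mul_smul, show d * w = w * d⁻¹ by
      rw [← hwd, inv_eq_of_orderOf hw2, ← mul_assoc, ← mul_assoc, mul_self_of_orderOf hw2, one_mul], mul_smul, hx']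
  -- the involutions, coset by coset
  have hJcard : (F.card - 1) * q ≤ J.card := by
    rw [← Finset.card_erase_of_mem hFo]
    refine le_trans ?_ (Finset.card_le_card (show ((F.erase o).biUnion fun x =>
      Finset.univ.filter fun w : G => orderOf w = 2 ∧ (w : G ⧸ pt T) = x) ⊆ J from fun w hw => ?_))
    · rw [Finset.card_biUnion]
      · rw [← smul_eq_mul, ← Finset.sum_const]
        refine Finset.sum_le_sum fun x hx => ?_
        obtain ⟨g, rfl⟩ := QuotientGroup.mk_surjective x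
        have hg : g ∉ pt T := fun hg => (Finset.mem_erase.1 hx).1 (eq_base_iff.2 hg)
        have h2 := card_involutions_coset (stronglyEmbedded h) hg
        rw [Nat.card_eq_fintype_card, Fintype.card_subtype] at h2
        refine le_of_eq_of_le (b := Nat.card {t : G // orderOf t = 2 ∧ t ∈ pt T}) ?_ (h2.ge.trans (le_of_eq ?_))
        · have := card_two h hu huH
          have := card_invol h
          omega
        · congr 1
          refine Finset.filter_congr fun w _ => and_congr_right fun _ => ?_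
          rw [eq_comm, QuotientGroup.eq]
      · intro x _ y _ hxy
        rw [Function.onFun, Finset.disjoint_left]
        intro w hw hw'
        exact hxy ((Finset.mem_filter.1 hw).2.2.symm.trans (Finset.mem_filter.1 hw').2.2)
    · obtain ⟨x, hx, hwx⟩ := Finset.mem_biUnion.1 hw
      obtain ⟨-, hw2, rfl⟩ := Finset.mem_filter.1 hwx
      obtain ⟨hne, hxF⟩ := Finset.mem_erase.1 hx
      have hwH : w ∉ pt T := fun e => hne (eq_base_iff.2 e)
      exact Finset.mem_filter.2 ⟨Finset.mem_univ _, hw2, inverts h hw2 hwH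
        ((mem_two_iff_fixes hw2).2 ⟨(Finset.mem_filter.1 hFo).2, (Finset.mem_filter.1 hxF).2⟩)⟩
  -- the orbit of the base point under `C`
  let O : Finset (G ⧸ pt T) := Finset.univ.filter fun x => x ∈ MulAction.orbit C o
  have hOF : O ⊆ F := by
    intro x hx
    obtain ⟨⟨c, hc⟩, rfl⟩ := (Finset.mem_filter.1 hx).2
    refine Finset.mem_filter.2 ⟨Finset.mem_univ _, ?_⟩
    show d • c • o = c • o
    rw [← mul_smul, ← Subgroup.mem_centralizer_singleton_iff.1 hc, mul_smul, ((mem_two_iff_fixes hu).1 hd).1]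
  have hOcard : O.card * q = Nat.card C := by
    haveI := Fintype.ofFinite C
    have hst : MulAction.stabilizer C o = (two T u).subgroupOf C := by
      ext ⟨c, hc⟩
      rw [MulAction.mem_stabilizer_iff, Subgroup.mem_subgroupOf]
      constructor
      · intro hco
        exact centralizer_inf h hu huH hd h1 (smul_base_iff.1 hco) (Subgroup.mem_centralizer_singleton_iff.1 hc)
      · exact fun hco => ((mem_two_iff_fixes hu).1 hco).1
    have hle : two T u ≤ C := fun c hc => Subgroup.mem_centralizer_singleton_iff.2 (two_comm h hu huH hc hd)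
    have h3 := Subgroup.card_mul_index ((two T u).subgroupOf C)
    rw [Nat.card_congr (Subgroup.subgroupOfEquivOfLe hle).toEquiv, ← hst, MulAction.index_stabilizer] at h3
    rw [← h3, mul_comm]
    congr 1
    rw [← Set.ncard_coe_finset]
    congr 1
    ext x
    simp [O]
  have hJC : J.card ≤ Nat.card C := by
    haveI := Fintype.ofFinite C
    rw [Nat.card_eq_fintype_card, ← Finset.card_univ]
    refine Finset.card_le_card_of_injOn (fun w => if hw : w ∈ J then (⟨u * w, ?_⟩ : C) else 1)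
      (fun w _ => Finset.mem_univ _) fun a ha b hb hab => ?_
    · obtain ⟨-, hw2, hwd⟩ := Finset.mem_filter.1 hw
      rw [Subgroup.mem_centralizer_singleton_iff]
      have hud := inverts h hu huH hd
      calc u * w * d = u * (w * d * w⁻¹) * w := by group
        _ = u * d⁻¹ * u⁻¹ * (u * w) := by rw [hwd]; group
        _ = (u * d * u⁻¹)⁻¹ * (u * w) := by group
        _ = d * (u * w) := by rw [hud, inv_inv]
    · simp only [Finset.mem_coe] at ha hb
      simp only [dif_pos ha, dif_pos hb, Subtype.mk.injEq, mul_right_inj] at hab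
      exact hab
  have hq0 : 0 < q := Nat.card_pos
  have hfO : F.card - 1 ≤ O.card := Nat.le_of_mul_le_mul_right ((hJcard.trans hJC).trans hOcard.ge) hq0
  have hOodd : Odd O.card := (Nat.odd_mul.1 (hOcard ▸ hCodd)).1
  have hFeven : Even F.card := by
    have h0 : ∑ _x ∈ F, (1 : ZMod 2) = 0 := Finset.sum_involution (fun x _ => u • x)
      (fun _ _ => by decide) (fun x hx _ => hJfix u huJ x hx) (fun x hx => hJperm u huJ x hx)
      fun x _ => by rw [← mul_smul, mul_self_of_orderOf hu, one_smul]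
    rw [Finset.sum_const, nsmul_one] at h0
    exact ((ZMod.natCast_eq_zero_iff _ 2).1 h0).elim fun k hk => ⟨k, by omega⟩
  have hOF' : O.card < F.card := lt_of_le_of_ne (Finset.card_le_card hOF) fun e =>
    (Nat.not_even_iff_odd.2 hOodd) (e ▸ hFeven)
  obtain ⟨x, hxF, hxO⟩ : ∃ x ∈ F, x ∉ O := by
    by_contra hh
    push Not at hh
    exact hOF'.not_ge (Finset.card_le_card hh)
  have hxo : x ≠ o := fun e => hxO (e ▸ Finset.mem_filter.2 ⟨Finset.mem_univ _, MulAction.mem_orbit_self o⟩)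
  obtain ⟨w, hw2, hwH, hwx⟩ := exists_involution_to h hxo
  have hwo : w • o = x := by rw [← hwx, ho, MulAction.Quotient.smul_coe, smul_eq_mul, mul_one]
  have hwJ : w ∈ J := Finset.mem_filter.2 ⟨Finset.mem_univ _, hw2, inverts h hw2 hwH
    ((mem_two_iff_fixes hw2).2 ⟨(Finset.mem_filter.1 hFo).2, hwx ▸ (Finset.mem_filter.1 hxF).2⟩)⟩
  have hsub : O.image (w • ·) ⊆ F \ O := by
    intro z hz
    obtain ⟨z', hz', rfl⟩ := Finset.mem_image.1 hz
    refine Finset.mem_sdiff.2 ⟨hJperm w hwJ z' (hOF hz'), fun hzO => hxO ?_⟩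
    obtain ⟨⟨c, hc⟩, rfl⟩ := (Finset.mem_filter.1 hz').2
    obtain ⟨⟨c', hc'⟩, hce⟩ := (Finset.mem_filter.1 hzO).2
    have hce' : c' • o = w • c • o := hce
    have hwd := (Finset.mem_filter.1 hwJ).2.2
    have hwd' : w * d⁻¹ * w⁻¹ = d := by
      rw [show w * d⁻¹ * w⁻¹ = (w * d * w⁻¹)⁻¹ by group, hwd, inv_inv]
    have hcd : c⁻¹ * d⁻¹ = d⁻¹ * c⁻¹ :=
      (show Commute c d from Subgroup.mem_centralizer_singleton_iff.1 hc).inv_inv.eq
    have hwcw : w * c⁻¹ * w⁻¹ ∈ C := by
      rw [Subgroup.mem_centralizer_singleton_iff]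
      calc w * c⁻¹ * w⁻¹ * d = w * c⁻¹ * w⁻¹ * (w * d⁻¹ * w⁻¹) := by rw [hwd']
        _ = w * (c⁻¹ * d⁻¹) * w⁻¹ := by group
        _ = w * (d⁻¹ * c⁻¹) * w⁻¹ := by rw [hcd]
        _ = (w * d⁻¹ * w⁻¹) * (w * c⁻¹ * w⁻¹) := by group
        _ = d * (w * c⁻¹ * w⁻¹) := by rw [hwd']
    refine Finset.mem_filter.2 ⟨Finset.mem_univ _, ⟨⟨_, C.mul_mem hwcw hc'⟩, ?_⟩⟩
    show (w * c⁻¹ * w⁻¹ * c') • o = x
    rw [mul_smul, hce', ← mul_smul, show w * c⁻¹ * w⁻¹ * w = w * c⁻¹ by group, ← mul_smul,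
      inv_mul_cancel_right, hwo]
  have h5 := Finset.card_le_card hsub
  rw [Finset.card_image_of_injective _ (MulAction.injective w), Finset.card_sdiff_of_subset hOF] at h5
  have hF2 : F.card ≤ 2 := by omega
  by_contra hne
  push Not at hne
  have : ({o, (u : G ⧸ pt T), y} : Finset (G ⧸ pt T)) ⊆ F := by
    intro z hz
    simp only [Finset.mem_insert, Finset.mem_singleton] at hz
    rcases hz with rfl | rfl | rfl
    exacts [hFo, hFu, Finset.mem_filter.2 ⟨Finset.mem_univ _, hy⟩]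
  have h3 := Finset.card_le_card this
  rw [Finset.card_insert_of_notMem (by simp [huo.symm, hne.1.symm]), Finset.card_pair hne.2.symm] at h3
  omega

include hu huH in
theorem normalizer_two : Subgroup.normalizer (two T u : Set G) = two T u ⊔ Subgroup.zpowers u := by
  have hu' := mul_self_of_orderOf hu
  refine le_antisymm (fun n hn => ?_) (sup_le Subgroup.le_normalizer (Subgroup.zpowers_le.2 ?_))
  · obtain ⟨d, hd, h1⟩ : ∃ d ∈ two T u, d ≠ 1 := by
      refine (Subgroup.bot_or_exists_ne_one _).resolve_left fun e => ?_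
      have := card_two h hu huH
      have := four_le h
      rw [e, Subgroup.card_bot] at *
      omega
    have hd' : n⁻¹ * d * n ∈ two T u := by
      have := (Subgroup.mem_normalizer_iff.1 (inv_mem hn) d).1 hd
      rwa [inv_inv] at this
    have hd'1 : n⁻¹ * d * n ≠ 1 := fun e => h1 (by
      calc d = n * (n⁻¹ * d * n) * n⁻¹ := by group
        _ = 1 := by rw [e]; group)
    obtain ⟨hfo, hfu⟩ := (mem_two_iff_fixes hu).1 hd'
    have key : ∀ z : G ⧸ pt T, (n⁻¹ * d * n) • z = z → n • z = base T ∨ n • z = (u : G ⧸ pt T) := fun z hz => by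
      refine fixes_two h hu huH hd h1 ?_
      have := congrArg (n • ·) hz
      simp only [← mul_smul] at this
      rw [show n * (n⁻¹ * d * n) = d * n by group, mul_smul] at this
      exact this
    have huo : (u : G ⧸ pt T) ≠ base T := fun e => huH (eq_base_iff.1 e)
    have hub : u • base T = (u : G ⧸ pt T) := by rw [MulAction.Quotient.smul_coe, smul_eq_mul, mul_one]
    have huu : u • (u : G ⧸ pt T) = base T := by rw [MulAction.Quotient.smul_coe, smul_eq_mul, hu']
    rcases key _ hfo with e1 | e1 <;> rcases key _ hfu with e2 | e2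
    · exact absurd (MulAction.injective n (e1.trans e2.symm)) huo.symm
    · exact Subgroup.mem_sup_left ((mem_two_iff_fixes hu).2 ⟨e1, e2⟩)
    · have h6 : u * n ∈ two T u := (mem_two_iff_fixes hu).2
        ⟨by rw [mul_smul, e1, huu], by rw [mul_smul, e2, hub]⟩
      have h7 := mul_mem (Subgroup.mem_sup_right (S := two T u) (Subgroup.mem_zpowers u))
        (Subgroup.mem_sup_left (T := Subgroup.zpowers u) h6)
      rwa [← mul_assoc, hu', one_mul] at h7
    · exact absurd (MulAction.injective n (e1.trans e2.symm)) huo.symm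
  · refine Subgroup.mem_normalizer_fintype fun x hx => ?_
    rw [inverts h hu huH hx]
    exact inv_mem hx

include hu huH in
theorem card_other : Nat.card {y : G ⧸ pt T // y ≠ base T} = Nat.card T := by
  classical
  choose W hW2 hWH hWy using fun y : {y : G ⧸ pt T // y ≠ base T} => exists_involution_to h y.2
  haveI := Fintype.ofFinite (pt T)
  haveI := Fintype.ofFinite {y : G ⧸ pt T // y ≠ base T}
  let ι : (Σ y : {y : G ⧸ pt T // y ≠ base T}, {d : two T (W y) // d ≠ 1}) →
      {x : pt T // (x : G) ∉ (T : Subgroup G)} := fun s =>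
    ⟨⟨(s.2.1 : G), s.2.1.2.1⟩, fun hT => s.2.2 (Subtype.ext (eq_one_of_sq h (hWH s.1) s.2.1.2 (sq_eq_one h hT).1))⟩
  have hinj : Function.Injective ι := by
    rintro ⟨y, d, hd⟩ ⟨y', d', hd'⟩ e
    have e' : (d : G) = d' := congrArg (fun x => ((x.1 : pt T) : G)) e
    have hyy : y = y' := by
      have hf := ((mem_two_iff_fixes (hW2 y')).1 d'.2).2
      rw [← e', hWy y'] at hf
      rcases fixes_two h (hW2 y) (hWH y) d.2 (fun e1 => hd (Subtype.ext e1)) hf with e2 | e2
      · exact absurd e2 y'.2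
      · exact Subtype.ext ((hWy y).symm.trans e2.symm)
    subst hyy
    obtain rfl : d = d' := Subtype.ext e'
    rfl
  have h1 := Nat.card_le_card_of_injective ι hinj
  rw [Nat.card_sigma, Finset.sum_congr rfl fun y _ => show Nat.card {d : two T (W y) // d ≠ 1} = Nat.card T - 2 from ?_,
    Finset.sum_const, Finset.card_univ, smul_eq_mul, ← Nat.card_eq_fintype_card] at h1
  swap
  · haveI := Fintype.ofFinite (two T (W y))
    have := card_two h (hW2 y) (hWH y)
    rw [Nat.card_eq_fintype_card] at this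
    rw [Nat.card_eq_fintype_card, Fintype.card_subtype_compl, Fintype.card_subtype_eq]
    omega
  have h2 : Nat.card {x : pt T // (x : G) ∉ (T : Subgroup G)} = Nat.card T * (Nat.card T - 2) := by
    have e : Nat.card {x : pt T // (x : G) ∈ (T : Subgroup G)} = Nat.card T :=
      Nat.card_congr (Subgroup.subgroupOfEquivOfLe Subgroup.le_normalizer).toEquiv
    rw [Nat.card_eq_fintype_card, Fintype.card_subtype_compl, ← Nat.card_eq_fintype_card, ← Nat.card_eq_fintype_card,
      card_pt h hu huH, e]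
    have := card_two h hu huH
    rw [show Nat.card (two T u) = Nat.card T - 1 by omega, Nat.sub_one_mul, Nat.mul_sub,
      Nat.sub_sub, ← two_mul, mul_comm 2]
  rw [h2] at h1
  refine le_antisymm (Nat.le_of_mul_le_mul_right h1 (by have := four_le h; omega)) ?_
  have huo : (u : G ⧸ pt T) ≠ base T := fun e => huH (eq_base_iff.1 e)
  refine Nat.card_le_card_of_injective (fun t : T => (⟨(t : G) • (u : G ⧸ pt T), fun e => huo ?_⟩ :
    {y : G ⧸ pt T // y ≠ base T})) fun a b hab => ?_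
  · rw [← smul_base_iff.2 (Subgroup.le_normalizer t.2)] at e
    exact MulAction.injective (t : G) e
  · have hab' : (a : G) • (u : G ⧸ pt T) = (b : G) • (u : G ⧸ pt T) := congrArg Subtype.val hab
    by_contra hne
    have hm : (b : G)⁻¹ * a ∈ (T : Subgroup G) := mul_mem (inv_mem b.2) a.2
    refine huo (involution_fixes h (orderOf_of_mem h hm fun e => hne (Subtype.ext (inv_mul_eq_one.1 e).symm))
      (Subgroup.le_normalizer hm) ?_)
    rw [mul_smul, hab', inv_smul_smul]

theorem regular {x y : G ⧸ pt T} (hx : x ≠ base T) (hy : y ≠ base T) : ∃! t : G, t ∈ T ∧ t • x = y := by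
  classical
  obtain ⟨u, hu, huH, rfl⟩ := exists_involution_to h hx
  let f : ↥(T : Subgroup G) → {y : G ⧸ pt T // y ≠ base T} := fun t => ⟨(t : G) • (u : G ⧸ pt T), fun e => hx (by
    rw [← smul_base_iff.2 (Subgroup.le_normalizer t.2)] at e
    exact MulAction.injective (t : G) e)⟩
  have hinj : Function.Injective f := by
    intro a b hab
    have hab' : (a : G) • (u : G ⧸ pt T) = (b : G) • (u : G ⧸ pt T) := congrArg Subtype.val hab
    by_contra hne
    have hm : (b : G)⁻¹ * a ∈ (T : Subgroup G) := mul_mem (inv_mem b.2) a.2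
    refine hx (involution_fixes h (orderOf_of_mem h hm fun e => hne (Subtype.ext (inv_mul_eq_one.1 e).symm))
      (Subgroup.le_normalizer hm) ?_)
    rw [mul_smul, hab', inv_smul_smul]
  haveI := Fintype.ofFinite (T : Subgroup G)
  haveI := Fintype.ofFinite {y : G ⧸ pt T // y ≠ base T}
  have hbij := (Fintype.bijective_iff_injective_and_card f).2 ⟨hinj, by
    rw [← Nat.card_eq_fintype_card, ← Nat.card_eq_fintype_card, card_other h hu huH]⟩
  obtain ⟨t, ht⟩ := hbij.2 ⟨y, hy⟩
  exact ⟨t, ⟨t.2, congrArg Subtype.val ht⟩, fun s hs =>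
    congrArg Subtype.val (hinj (a₁ := ⟨s, hs.1⟩) (a₂ := t) (Subtype.ext (hs.2.trans (congrArg Subtype.val ht).symm)))⟩

include hu huH in
theorem transitive_rest {z : G ⧸ pt T} (hz : z ≠ base T) (hz' : z ≠ (u : G ⧸ pt T))
    {z' : G ⧸ pt T} (h1 : z' ≠ base T) (h2 : z' ≠ (u : G ⧸ pt T)) : ∃ d ∈ two T u, d • z = z' := by
  classical
  let f : two T u → {y : {y : G ⧸ pt T // y ≠ base T} // y.1 ≠ (u : G ⧸ pt T)} := fun d =>
    ⟨⟨(d : G) • z, fun e => hz (MulAction.injective (d : G) (e.trans ((mem_two_iff_fixes hu).1 d.2).1.symm))⟩,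
      fun e => hz' (MulAction.injective (d : G) (e.trans ((mem_two_iff_fixes hu).1 d.2).2.symm))⟩
  have hinj : Function.Injective f := by
    intro a b hab
    have hab' : (a : G) • z = (b : G) • z := congrArg (fun v => (v.1 : G ⧸ pt T)) hab
    by_contra hne
    rcases fixes_two h hu huH ((two T u).mul_mem (inv_mem b.2) a.2)
      (fun e => hne (Subtype.ext (inv_mul_eq_one.1 e).symm)) (y := z) (by rw [mul_smul, hab', inv_smul_smul]) with e | e
    exacts [hz e, hz' e]
  haveI := Fintype.ofFinite (two T u)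
  haveI := Fintype.ofFinite {y : G ⧸ pt T // y ≠ base T}
  have hcard : Fintype.card (two T u) = Fintype.card {y : {y : G ⧸ pt T // y ≠ base T} // y.1 ≠ (u : G ⧸ pt T)} := by
    have huo : (u : G ⧸ pt T) ≠ base T := fun e => huH (eq_base_iff.1 e)
    rw [Fintype.card_congr (Equiv.subtypeEquivRight (fun y : {y : G ⧸ pt T // y ≠ base T} =>
      (not_congr (Subtype.ext_iff.symm : (y : G ⧸ pt T) = (⟨(u : G ⧸ pt T), huo⟩ : {y // y ≠ base T}).1 ↔ _)))),
      Fintype.card_subtype_compl, Fintype.card_subtype_eq, ← Nat.card_eq_fintype_card, ← Nat.card_eq_fintype_card,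
      card_other h hu huH]
    have := card_two h hu huH
    omega
  obtain ⟨d, hd⟩ := ((Fintype.bijective_iff_injective_and_card f).2 ⟨hinj, hcard⟩).2 ⟨⟨z', h1⟩, h2⟩
  exact ⟨d, d.2, congrArg (fun v => (v.1 : G ⧸ pt T)) hd⟩

theorem three_fixed (g : G) (x₁ x₂ x₃ : G ⧸ pt T) (h12 : x₁ ≠ x₂) (h13 : x₁ ≠ x₃) (h23 : x₂ ≠ x₃)
    (e1 : g • x₁ = x₁) (e2 : g • x₂ = x₂) (e3 : g • x₃ = x₃) : g = 1 := by
  obtain ⟨a, rfl⟩ := QuotientGroup.mk_surjective x₁
  have hbase : a⁻¹ • (a : G ⧸ pt T) = base T := by rw [MulAction.Quotient.smul_coe, smul_eq_mul, inv_mul_cancel]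
  have hne : a⁻¹ • x₂ ≠ base T := fun e => h12 (MulAction.injective a⁻¹ (hbase.trans e.symm))
  obtain ⟨u, hu, huH, hux⟩ := exists_involution_to h hne
  have hconj : ∀ z : G ⧸ pt T, g • z = z → (a⁻¹ * g * a) • a⁻¹ • z = a⁻¹ • z := fun z hz => by
    rw [mul_smul, smul_inv_smul, mul_smul, hz]
  have hm : a⁻¹ * g * a ∈ two T u := (mem_two_iff_fixes hu).2
    ⟨hbase ▸ hconj _ e1, hux ▸ hconj _ e2⟩
  by_contra hg
  rcases fixes_two h hu huH hm (fun e => hg (by
    calc g = a * (a⁻¹ * g * a) * a⁻¹ := by group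
      _ = 1 := by rw [e]; group)) (hconj _ e3) with e | e
  · exact h13 (MulAction.injective a⁻¹ (hbase.trans e.symm))
  · exact h23 (MulAction.injective a⁻¹ (hux.symm.trans e.symm))

theorem three_transitive (x₁ x₂ x₃ y₁ y₂ y₃ : G ⧸ pt T) (hx12 : x₁ ≠ x₂) (hx13 : x₁ ≠ x₃) (hx23 : x₂ ≠ x₃)
    (hy12 : y₁ ≠ y₂) (hy13 : y₁ ≠ y₃) (hy23 : y₂ ≠ y₃) :
    ∃ g : G, g • x₁ = y₁ ∧ g • x₂ = y₂ ∧ g • x₃ = y₃ := by
  obtain ⟨a, rfl⟩ := QuotientGroup.mk_surjective y₁
  obtain ⟨b, rfl⟩ := QuotientGroup.mk_surjective x₁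
  have hb : b⁻¹ • (b : G ⧸ pt T) = base T := by rw [MulAction.Quotient.smul_coe, smul_eq_mul, inv_mul_cancel]
  have ha : a • base T = (a : G ⧸ pt T) := by rw [MulAction.Quotient.smul_coe, smul_eq_mul, mul_one]
  have ne : ∀ {c : G} {z w : G ⧸ pt T}, z ≠ w → c • z ≠ c • w := fun hzw e => hzw (MulAction.injective _ e)
  have hx2 : b⁻¹ • x₂ ≠ base T := hb ▸ ne hx12.symm
  have hy2 : a⁻¹ • y₂ ≠ base T := fun e => hy12 (by rw [← ha, ← e, smul_inv_smul])
  obtain ⟨t, ⟨htT, ht⟩, -⟩ := regular h hx2 hy2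
  have htb : t • base T = base T := smul_base_iff.2 (Subgroup.le_normalizer htT)
  obtain ⟨u, hu, huH, hux⟩ := exists_involution_to h hy2
  have h3o : t • b⁻¹ • x₃ ≠ base T := htb ▸ ne (hb ▸ ne hx13.symm)
  have h3u : t • b⁻¹ • x₃ ≠ (u : G ⧸ pt T) := by rw [hux, ← ht]; exact ne (ne hx23.symm)
  have h4o : a⁻¹ • y₃ ≠ base T := fun e => hy13 (by rw [← ha, ← e, smul_inv_smul])
  have h4u : a⁻¹ • y₃ ≠ (u : G ⧸ pt T) := by rw [hux]; exact ne hy23.symm
  obtain ⟨d, hd, hde⟩ := transitive_rest h hu huH h3o h3u h4o h4u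
  obtain ⟨hdo, hdu⟩ := (mem_two_iff_fixes hu).1 hd
  refine ⟨a * (d * (t * b⁻¹)), ?_, ?_, ?_⟩
  · simp only [mul_smul]; rw [hb, htb, hdo, ha]
  · simp only [mul_smul]; rw [ht, ← hux, hdu, hux, smul_inv_smul]
  · simp only [mul_smul]; rw [hde, smul_inv_smul]

end CfsgLib.Invol.ElemCentralizer
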