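import Cfsg.Agent.Invol.Dihedral
import Mathlib.GroupTheory.SpecificGroups.KleinFour
import Mathlib.GroupTheory.Sylow
import Mathlib.Algebra.Group.Conj
import Mathlib.Tactic

/-!
Fusion of involutions in a group whose Sylow 2-subgroups are Klein four-groups.
-/

set_option autoImplicit false

open scoped Pointwise

namespace CfsgLib.Invol

variable {G : Type*} [Group G] [Finite G]

/-- The classes of involutions. -/
abbrev InvClass (G : Type*) [Group G] : Type _ :=
  {C : ConjClasses G // ∃ t : G, orderOf t = 2 ∧ ConjClasses.mk t = C}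

theorem kleinFour_orderOf (P : Sylow 2 G) (hP : IsKleinFour (P : Subgroup G)) (a : (P : Subgroup G)) (ha : a ≠ 1) :
    orderOf (a : G) = 2 := by
  haveI := hP
  rw [Subgroup.orderOf_coe]
  exact orderOf_eq_two (IsKleinFour.mul_self a) ha

instance : Finite (InvClass G) := by
  haveI : Finite (ConjClasses G) := Quotient.finite _
  infer_instance

/-- The class map on the nontrivial elements of the Sylow subgroup. -/
def kleinMap (P : Sylow 2 G) (hP : IsKleinFour (P : Subgroup G)) (a : {a : (P : Subgroup G) // a ≠ 1}) :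
    InvClass G :=
  ⟨ConjClasses.mk ((a : (P : Subgroup G)) : G), _, kleinFour_orderOf P hP a a.2, rfl⟩

theorem card_kleinDom (P : Sylow 2 G) (hP : IsKleinFour (P : Subgroup G)) :
    Nat.card {a : (P : Subgroup G) // a ≠ 1} = 3 := by
  classical
  haveI := hP
  haveI := Fintype.ofFinite (P : Subgroup G)
  rw [Nat.card_eq_fintype_card, Fintype.card_subtype_compl, Fintype.card_subtype_eq,
    ← Nat.card_eq_fintype_card, IsKleinFour.card_four]

theorem kleinMap_surjective (P : Sylow 2 G) (hP : IsKleinFour (P : Subgroup G)) :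
    Function.Surjective (kleinMap P hP) := by
  haveI : Fact (Nat.Prime 2) := ⟨Nat.prime_two⟩
  rintro ⟨C, t, ht, rfl⟩
  have hp : IsPGroup 2 (Subgroup.zpowers t) := IsPGroup.of_card (n := 1) (by rw [Nat.card_zpowers, ht, pow_one])
  obtain ⟨Q, hQ⟩ := hp.exists_le_sylow
  obtain ⟨g, rfl⟩ := MulAction.exists_smul_eq G P Q
  have h1 : g⁻¹ * t * g ∈ (P : Subgroup G) := by
    have h2 : t ∈ MulAut.conj g • (P : Subgroup G) := hQ (Subgroup.mem_zpowers t)
    rw [Subgroup.mem_pointwise_smul_iff_inv_smul_mem] at h2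
    simpa [MulAut.smul_def] using h2
  refine ⟨⟨⟨_, h1⟩, fun h => ne_one_of_orderOf ht ?_⟩, Subtype.ext ?_⟩
  · have h3 : g⁻¹ * t * g = 1 := congrArg Subtype.val h
    calc t = g * (g⁻¹ * t * g) * g⁻¹ := by group
      _ = 1 := by rw [h3]; group
  · exact ConjClasses.mk_eq_mk_iff_isConj.2 (isConj_iff.2 ⟨g, by group⟩)

theorem exists_normalizer_conj (P : Sylow 2 G) (hP : IsKleinFour (P : Subgroup G))
    {a b : {a : (P : Subgroup G) // a ≠ 1}} (h : kleinMap P hP a = kleinMap P hP b) :
    ∃ n ∈ Subgroup.normalizer (P : Set G), n * ((a : (P : Subgroup G)) : G) * n⁻¹ = ((b : (P : Subgroup G)) : G) := by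
  haveI : Fact (Nat.Prime 2) := ⟨Nat.prime_two⟩
  haveI := hP
  haveI : IsMulCommutative (P : Subgroup G) := ⟨⟨mul_comm_of_exponent_two IsKleinFour.exponent_two⟩⟩
  obtain ⟨g, hg⟩ := isConj_iff.1 (ConjClasses.mk_eq_mk_iff_isConj.1 (congrArg Subtype.val h))
  obtain ⟨n, hn, he⟩ := P.conj_eq_normalizer_conj_of_mem ((a : (P : Subgroup G)) : G) g⁻¹ a.1.2
    (by rw [inv_inv, hg]; exact b.1.2)
  exact ⟨n⁻¹, inv_mem hn, by rw [inv_inv, hg] at he; rw [inv_inv]; exact he.symm⟩

theorem card_invClass_ne_two (P : Sylow 2 G) (hP : IsKleinFour (P : Subgroup G)) :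
    Nat.card (InvClass G) ≠ 2 := by
  classical
  haveI : Fact (Nat.Prime 2) := ⟨Nat.prime_two⟩
  intro h2
  have hnin : ¬ Function.Injective (kleinMap P hP) := fun hi => by
    have := Nat.card_eq_of_bijective _ ⟨hi, kleinMap_surjective P hP⟩
    rw [card_kleinDom P hP, h2] at this
    omega
  obtain ⟨a, b, hab, hne⟩ : ∃ a b, kleinMap P hP a = kleinMap P hP b ∧ a ≠ b := by
    simpa [Function.Injective] using hnin
  obtain ⟨c, hc⟩ : ∃ c, kleinMap P hP c ≠ kleinMap P hP a := by
    by_contra hall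
    push Not at hall
    have hsub : Subsingleton (InvClass G) := ⟨fun x y => by
      obtain ⟨u, rfl⟩ := kleinMap_surjective P hP x
      obtain ⟨v, rfl⟩ := kleinMap_surjective P hP y
      rw [hall u, hall v]⟩
    have := Finite.card_le_one_iff_subsingleton.2 hsub
    omega
  have hac : c ≠ a := fun h => hc (h ▸ rfl)
  have hbc : c ≠ b := fun h => hc (h ▸ hab.symm)
  haveI := Fintype.ofFinite {a : (P : Subgroup G) // a ≠ 1}
  have huniv : ∀ x : {a : (P : Subgroup G) // a ≠ 1}, x = a ∨ x = b ∨ x = c := by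
    intro x
    by_contra hx
    push Not at hx
    have h4 : ({x, a, b, c} : Finset {a : (P : Subgroup G) // a ≠ 1}).card = 4 := by
      simp [Finset.card_insert_of_notMem, hx.1, hx.2.1, hx.2.2, hne, hac.symm, hbc.symm]
    have h5 := Finset.card_le_univ ({x, a, b, c} : Finset {a : (P : Subgroup G) // a ≠ 1})
    rw [h4, ← Nat.card_eq_fintype_card, card_kleinDom P hP] at h5
    omega
  obtain ⟨n, hn, hnab⟩ := exists_normalizer_conj P hP hab
  have hconj : ∀ x : {a : (P : Subgroup G) // a ≠ 1}, ∃ y : {a : (P : Subgroup G) // a ≠ 1},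
      n * ((x : (P : Subgroup G)) : G) * n⁻¹ = ((y : (P : Subgroup G)) : G) ∧ kleinMap P hP y = kleinMap P hP x := by
    intro x
    refine ⟨⟨⟨_, (Subgroup.mem_normalizer_iff.1 hn _).1 x.1.2⟩, fun h => x.2 ?_⟩, rfl, Subtype.ext ?_⟩
    · exact Subtype.ext (conj_eq_one_iff.1 (congrArg Subtype.val h : n * ((x : (P : Subgroup G)) : G) * n⁻¹ = 1))
    · exact ConjClasses.mk_eq_mk_iff_isConj.2 (isConj_iff.2 ⟨n⁻¹, by group⟩)
  obtain ⟨y, hy, hyb⟩ := hconj b
  have hya : y = a := by
    rcases huniv y with h | h | h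
    · exact h
    · exfalso
      rw [h] at hy
      exact hne (Subtype.ext (Subtype.ext (mul_left_cancel (mul_right_cancel (hy.trans hnab.symm))).symm))
    · exact absurd (hyb.trans hab.symm) (h ▸ hc)
  rw [hya] at hy
  have hsq : ∀ k : ℕ, n ^ k * ((a : (P : Subgroup G)) : G) * (n ^ k)⁻¹ =
      if Even k then ((a : (P : Subgroup G)) : G) else ((b : (P : Subgroup G)) : G) := by
    intro k
    induction k with
    | zero => simp
    | succ k ih =>
      rw [pow_succ']
      rw [show n * n ^ k * ((a : (P : Subgroup G)) : G) * (n * n ^ k)⁻¹ =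
        n * (n ^ k * ((a : (P : Subgroup G)) : G) * (n ^ k)⁻¹) * n⁻¹ by group, ih]
      by_cases hk : Even k
      · rw [if_pos hk, if_neg (fun h => (Nat.even_add_one.1 h) hk), hnab]
      · rw [if_neg hk, if_pos (Nat.even_add_one.2 hk), hy]
  obtain ⟨k, m, hm, hkm⟩ := Nat.exists_eq_two_pow_mul_odd (orderOf_pos n).ne'
  have h1 : (n ^ m) ^ 2 ^ k = 1 := by rw [← pow_mul, mul_comm, ← hkm, pow_orderOf_eq_one]
  have h3 : n ^ m ∈ (P : Subgroup G) := by
    have hp : IsPGroup 2 (Subgroup.zpowers (n ^ m)) := by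
      obtain ⟨j, _, hj⟩ := (Nat.dvd_prime_pow Nat.prime_two).1 (orderOf_dvd_of_pow_eq_one h1)
      exact IsPGroup.of_card (n := j) (by rw [Nat.card_zpowers, hj])
    have hle : Subgroup.zpowers (n ^ m) ≤ Subgroup.normalizer (P : Set G) := Subgroup.zpowers_le.2 (pow_mem hn m)
    have h4 := P.is_maximal' (IsPGroup.to_sup_of_normal_right' hp P.isPGroup' hle) le_sup_right
    exact h4 ▸ Subgroup.mem_sup_left (Subgroup.mem_zpowers _)
  have h5 := hsq m
  rw [if_neg (Nat.not_even_iff_odd.2 hm)] at h5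
  haveI := hP
  have h6 : n ^ m * ((a : (P : Subgroup G)) : G) = ((a : (P : Subgroup G)) : G) * n ^ m :=
    congrArg Subtype.val (mul_comm_of_exponent_two (G := (P : Subgroup G)) IsKleinFour.exponent_two ⟨_, h3⟩ a.1)
  rw [h6, mul_inv_cancel_right] at h5
  exact hne (Subtype.ext (Subtype.ext h5))

theorem card_invClass_eq_one_or_three (P : Sylow 2 G) (hP : IsKleinFour (P : Subgroup G)) :
    Nat.card (InvClass G) = 1 ∨ Nat.card (InvClass G) = 3 := by
  have h1 := Nat.card_le_card_of_surjective _ (kleinMap_surjective P hP)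
  rw [card_kleinDom P hP] at h1
  have h2 : 0 < Nat.card (InvClass G) := by
    haveI : Nonempty {a : (P : Subgroup G) // a ≠ 1} := (Nat.card_pos_iff.1 (card_kleinDom P hP ▸ by norm_num)).1
    haveI : Nonempty (InvClass G) := ⟨kleinMap P hP (Classical.arbitrary _)⟩
    exact Nat.card_pos
  have := card_invClass_ne_two P hP
  omega

end CfsgLib.Invol
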